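import Cfsg.Agent.Lib.PrimeDim.SympType

/-!
Groups of symplectic type in dimension `r ^ 2`, `r` an odd prime.
-/

set_option autoImplicit false
set_option linter.unusedSectionVars false
set_option linter.style.haveILetI false
set_option linter.unusedSimpArgs false

namespace Cfsg.Agent.Lib.LinNine

open Matrix Finset Cfsg.Geo
open Cfsg.Agent.Lib.PrimeDim.SympType (filter_zero val_mem_scalars_iff left_eq_zero)

variable {ι : Type} [Fintype ι] [DecidableEq ι] {F : Type*} [Field F]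

local notation "M" => Matrix ι ι F
local notation "G" => GL ι F

/-- The matrix `x^a y^b`. -/
abbrev wd {r : ℕ} (x y : GL ι F) (ab : Fin r × Fin r) : Matrix ι ι F :=
  (x : Matrix ι ι F) ^ (ab.1 : ℕ) * (y : Matrix ι ι F) ^ (ab.2 : ℕ)

/-- Two matrices with commutator `ω` of order `r`. -/
structure Pair (r : ℕ) (ω : F) (x y : GL ι F) : Prop where
  prime : r.Prime
  root : IsPrimitiveRoot ω r
  rel : (x : M) * y = ω • ((y : M) * x)

theorem commute_of_scal {z g : GL ι F} {c : F} (hc : (z : M) = c • 1) : Commute z g :=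
  Units.ext (by rw [Units.val_mul, Units.val_mul, hc, smul_mul_assoc, one_mul, mul_smul_comm, mul_one])

theorem commute_val {g h : GL ι F} (e : Commute g h) : Commute (g : M) (h : M) := e.map (Units.coeHom M)

namespace Pair

variable {r : ℕ} {ω : F} {x y : GL ι F}

theorem cast_ne_zero (h : Pair r ω x y) : (r : F) ≠ 0 := by
  haveI : NeZero r := ⟨h.prime.ne_zero⟩
  exact (h.root.neZero').out

theorem omega_ne_zero (h : Pair r ω x y) : ω ≠ 0 := h.root.ne_zero h.prime.ne_zero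

theorem x_ypow (h : Pair r ω x y) (b : ℕ) : (x : M) * (y : M) ^ b = ω ^ b • ((y : M) ^ b * x) := by
  induction b with
  | zero => simp
  | succ b ih =>
    rw [pow_succ, ← mul_assoc, ih, smul_mul_assoc, mul_assoc, h.rel, mul_smul_comm, smul_smul, ← mul_assoc,
      ← pow_succ, ← pow_succ]

theorem xpow_ypow (h : Pair r ω x y) (a b : ℕ) :
    (x : M) ^ a * (y : M) ^ b = ω ^ (a * b) • ((y : M) ^ b * (x : M) ^ a) := by
  induction a with
  | zero => simp
  | succ a ih =>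
    rw [pow_succ, mul_assoc, h.x_ypow, mul_smul_comm, ← mul_assoc, ih, smul_mul_assoc, smul_smul, mul_assoc,
      ← pow_succ, ← pow_add]
    congr 2
    ring

theorem conj_x (h : Pair r ω x y) (k a b : ℕ) :
    (x : M) ^ k * ((x : M) ^ a * (y : M) ^ b) * ((x⁻¹ : G) : M) ^ k = ω ^ (k * b) • ((x : M) ^ a * (y : M) ^ b) := by
  have e : (x : M) ^ k * ((x⁻¹ : G) : M) ^ k = 1 := by
    rw [← Units.val_pow_eq_pow_val, ← Units.val_pow_eq_pow_val, ← Units.val_mul, inv_pow, mul_inv_cancel,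
      Units.val_one]
  rw [← mul_assoc, ← pow_add, add_comm, pow_add, mul_assoc ((x : M) ^ a), h.xpow_ypow, mul_smul_comm,
    smul_mul_assoc, mul_assoc, mul_assoc, e, mul_one]

theorem conj_y (h : Pair r ω x y) (k a : ℕ) :
    ((y⁻¹ : G) : M) ^ k * (x : M) ^ a * (y : M) ^ k = ω ^ (k * a) • (x : M) ^ a := by
  have e : ((y⁻¹ : G) : M) ^ k * (y : M) ^ k = 1 := by
    rw [← Units.val_pow_eq_pow_val, ← Units.val_pow_eq_pow_val, ← Units.val_mul, inv_pow, inv_mul_cancel,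
      Units.val_one]
  rw [mul_assoc, h.xpow_ypow, mul_smul_comm, ← mul_assoc, e, one_mul, mul_comm]

/-- Coefficients, allowed to be matrices commuting with `x` and `y`, of a vanishing combination vanish. -/
theorem coeff_zero (h : Pair r ω x y) (S : Fin r × Fin r → M) (hSx : ∀ t, Commute (S t) (x : M))
    (hSy : ∀ t, Commute (S t) (y : M)) (hc : ∑ t, S t * wd x y t = 0) : ∀ t, S t = 0 := by
  rintro ⟨a₀, b₀⟩
  have hb : ∀ b, ∑ a, S (a, b) * wd x y (a, b) = 0 := by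
    refine filter_zero h.root h.cast_ne_zero _ fun k => ?_
    have h1 := congrArg (fun m : M => (x : M) ^ k * m * ((x⁻¹ : G) : M) ^ k) hc
    have hcl : ∀ t : Fin r × Fin r, (x : M) ^ k * (S t * wd x y t) * ((x⁻¹ : G) : M) ^ k =
        ω ^ (k * (t.2 : ℕ)) • (S t * wd x y t) := fun t => by
      rw [← mul_assoc ((x : M) ^ k), ← ((hSx t).pow_right k).eq, mul_assoc (S t), mul_assoc (S t), h.conj_x,
        mul_smul_comm]
    simp only [Finset.mul_sum, Finset.sum_mul, hcl, mul_zero, zero_mul, Fintype.sum_prod_type] at h1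
    rw [Finset.sum_comm] at h1
    simpa only [Finset.smul_sum] using h1
  have ha : ∀ a, S (a, b₀) * (x : M) ^ (a : ℕ) = 0 := by
    refine filter_zero h.root h.cast_ne_zero _ fun k => ?_
    have h0 : ∑ a, S (a, b₀) * (x : M) ^ (a : ℕ) = 0 := by
      have h1 := congrArg (fun m : M => m * ((y⁻¹ : G) : M) ^ (b₀ : ℕ)) (hb b₀)
      simpa only [wd, Finset.sum_mul, mul_assoc, zero_mul, ← Units.val_pow_eq_pow_val, ← Units.val_mul,
        inv_pow, mul_inv_cancel, Units.val_one, mul_one] using h1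
    have h1 := congrArg (fun m : M => ((y⁻¹ : G) : M) ^ k * m * (y : M) ^ k) h0
    have hcl : ∀ a : Fin r, ((y⁻¹ : G) : M) ^ k * (S (a, b₀) * (x : M) ^ (a : ℕ)) * (y : M) ^ k =
        ω ^ (k * (a : ℕ)) • (S (a, b₀) * (x : M) ^ (a : ℕ)) := fun a => by
      rw [← mul_assoc (((y⁻¹ : G) : M) ^ k), ← (((hSy (a, b₀)).units_inv_right).pow_right k).eq,
        mul_assoc (S (a, b₀)), mul_assoc (S (a, b₀)), h.conj_y, mul_smul_comm]
    simp only [Finset.mul_sum, Finset.sum_mul, hcl, mul_zero, zero_mul] at h1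
    exact h1
  have h2 := congrArg (fun m : M => m * ((x⁻¹ : G) : M) ^ (a₀ : ℕ)) (ha a₀)
  simpa only [mul_assoc, zero_mul, ← Units.val_pow_eq_pow_val, ← Units.val_mul,
    inv_pow, mul_inv_cancel, Units.val_one, mul_one] using h2

end Pair

/-- Two commuting pairs in dimension `r ^ 2`. -/
structure Quad (r : ℕ) (ω : F) (x₁ y₁ x₂ y₂ : GL ι F) : Prop where
  card : Fintype.card ι = r ^ 2
  p₁ : Pair r ω x₁ y₁
  p₂ : Pair r ω x₂ y₂
  xx : Commute x₁ x₂
  xy : Commute x₁ y₂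
  yx : Commute y₁ x₂
  yy : Commute y₁ y₂

namespace Quad

variable {r : ℕ} {ω : F} {x₁ y₁ x₂ y₂ : GL ι F}

theorem prime (h : Quad r ω x₁ y₁ x₂ y₂) : r.Prime := h.p₁.prime

theorem nonempty (h : Quad r ω x₁ y₁ x₂ y₂) : Nonempty ι :=
  Fintype.card_pos_iff.1 (h.card ▸ pow_pos h.prime.pos 2)

theorem linearIndependent (h : Quad r ω x₁ y₁ x₂ y₂) :
    LinearIndependent F fun t : (Fin r × Fin r) × (Fin r × Fin r) => wd x₁ y₁ t.1 * wd x₂ y₂ t.2 := by
  rw [Fintype.linearIndependent_iff]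
  rintro c hc ⟨s, t⟩
  have hcomm : ∀ {g : G}, Commute x₁ g → Commute y₁ g → ∀ s : Fin r × Fin r, Commute (wd x₁ y₁ s) (g : M) :=
    fun hx hy s => ((commute_val hx).pow_left _).mul_left ((commute_val hy).pow_left _)
  have h0 := h.p₂.coeff_zero (fun t => ∑ s, c (s, t) • wd x₁ y₁ s)
    (fun t => Commute.sum_left _ _ _ fun s _ => (hcomm h.xx h.yx s).smul_left _)
    (fun t => Commute.sum_left _ _ _ fun s _ => (hcomm h.xy h.yy s).smul_left _) (by
      rw [← hc, Fintype.sum_prod_type (f := fun p : (Fin r × Fin r) × (Fin r × Fin r) => c p • _),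
        Finset.sum_comm]
      simp only [Finset.sum_mul, smul_mul_assoc]) t
  have h1 := h.p₁.coeff_zero (fun s => c (s, t) • (1 : M)) (fun s => (Commute.one_left _).smul_left _)
    (fun s => (Commute.one_left _).smul_left _) (by rw [← h0]; simp only [smul_mul_assoc, one_mul]) s
  haveI := h.nonempty
  exact (smul_eq_zero.1 h1).resolve_right one_ne_zero

theorem span_eq_top (h : Quad r ω x₁ y₁ x₂ y₂) :
    Submodule.span F (Set.range fun t : (Fin r × Fin r) × (Fin r × Fin r) => wd x₁ y₁ t.1 * wd x₂ y₂ t.2) = ⊤ := by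
  haveI : NeZero r := ⟨h.prime.ne_zero⟩
  refine h.linearIndependent.span_eq_top_of_card_eq_finrank ?_
  rw [Module.finrank_matrix, Module.finrank_self, mul_one, h.card]
  simp only [Fintype.card_prod, Fintype.card_fin]
  ring

theorem mem_scalars (h : Quad r ω x₁ y₁ x₂ y₂) {g : G} (h1 : Commute g x₁) (h2 : Commute g y₁)
    (h3 : Commute g x₂) (h4 : Commute g y₂) : g ∈ scalars ι F := by
  have hall : ∀ n : M, Commute (g : M) n := by
    intro n
    have hn : n ∈ Submodule.span F (Set.range fun t : (Fin r × Fin r) × (Fin r × Fin r) =>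
        wd x₁ y₁ t.1 * wd x₂ y₂ t.2) := h.span_eq_top ▸ Submodule.mem_top
    induction hn using Submodule.span_induction with
    | mem n hn =>
      obtain ⟨t, rfl⟩ := hn
      exact (((commute_val h1).pow_right _).mul_right ((commute_val h2).pow_right _)).mul_right
        (((commute_val h3).pow_right _).mul_right ((commute_val h4).pow_right _))
    | zero => exact Commute.zero_right _
    | add a b _ _ ha hb => exact ha.add_right hb
    | smul c a _ ha => exact ha.smul_right c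
  obtain ⟨c, hc⟩ := Matrix.mem_range_scalar_of_commute_single (fun i j _ => (hall _).symm)
  exact val_mem_scalars_iff.2 ⟨c, by rw [← hc, Matrix.scalar_apply, Matrix.smul_one_eq_diagonal]⟩

end Quad

/-- The hypotheses on `R`. -/
structure Data (r : ℕ) (R : Subgroup (GL ι F)) : Prop where
  card : Fintype.card ι = r ^ 2
  prime : r.Prime
  scal : ∀ z ∈ R, z ∈ scalars ι F → z ^ r = 1
  comm : ∀ a ∈ R, ∀ b ∈ R, a * b * a⁻¹ * b⁻¹ ∈ scalars ι F
  exp : ∀ g ∈ R, g ^ r = 1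
  absIrr : ActsAbsolutelyIrreducibly (matrixSet R)

namespace Data

variable {r : ℕ} {R : Subgroup (GL ι F)}

theorem nonempty (h : Data r R) : Nonempty ι := Fintype.card_pos_iff.1 (h.card ▸ pow_pos h.prime.pos 2)

theorem root_of_scal (h : Data r R) {z : G} (hz : z ∈ R) {c : F} (hc : (z : M) = c • 1) : c ^ r = 1 := by
  have e := congrArg Units.val (h.scal z hz (val_mem_scalars_iff.2 ⟨c, hc⟩))
  rw [Units.val_pow_eq_pow_val, hc, _root_.smul_pow, one_pow, Units.val_one] at e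
  obtain ⟨i⟩ := h.nonempty
  simpa using congrFun (congrFun e i) i

theorem exists_comm (h : Data r R) {a b : G} (ha : a ∈ R) (hb : b ∈ R) :
    ∃ c : F, c ^ r = 1 ∧ (a : M) * b = c • ((b : M) * a) ∧ ((a * b * a⁻¹ * b⁻¹ : G) : M) = c • 1 := by
  obtain ⟨c, hc⟩ := val_mem_scalars_iff.1 (h.comm a ha b hb)
  refine ⟨c, h.root_of_scal (by exact R.mul_mem (R.mul_mem (R.mul_mem ha hb) (R.inv_mem ha)) (R.inv_mem hb)) hc, ?_, hc⟩
  have e : a * b = a * b * a⁻¹ * b⁻¹ * (b * a) := by group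
  have e' := congrArg Units.val e
  rw [Units.val_mul, Units.val_mul, hc, smul_mul_assoc, one_mul, Units.val_mul] at e'
  exact e'

theorem pair_of_ne (h : Data r R) {u v : G} (hu : u ∈ R) (hv : v ∈ R) (hne : u * v ≠ v * u) :
    ∃ c : F, Pair r c u v ∧ ((u * v * u⁻¹ * v⁻¹ : G) : M) = c • 1 := by
  obtain ⟨c, hc, h1, h2⟩ := h.exists_comm hu hv
  have hc1 : c ≠ 1 := fun e => hne (Units.ext (by rw [Units.val_mul, Units.val_mul, h1, e, one_smul]))
  refine ⟨c, ⟨h.prime, ?_, h1⟩, h2⟩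
  exact IsPrimitiveRoot.iff_orderOf.2 (by
    haveI := Fact.mk h.prime
    exact orderOf_eq_prime hc hc1)

theorem mem_scalars_of_central (h : Data r R) {g : G} (hg : ∀ a ∈ R, Commute g a) : g ∈ scalars ι F := by
  refine val_mem_scalars_iff.2 (h.absIrr.2 _ ?_)
  rintro _ ⟨a, ha, rfl⟩
  exact (commute_val (hg a ha)).eq

/-- Removing a word in a pair makes an element commute with it. -/
theorem adjust (h : Data r R) {ω : F} {x y g : G} (hp : Pair r ω x y) (hx : x ∈ R) (hy : y ∈ R) (hg : g ∈ R) :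
    ∃ a b : Fin r, ∃ g' ∈ R, Commute g' x ∧ Commute g' y ∧ g = x ^ (a : ℕ) * y ^ (b : ℕ) * g' := by
  haveI : NeZero r := ⟨h.prime.ne_zero⟩
  obtain ⟨cx, hcx, hgx, -⟩ := h.exists_comm hg hx
  obtain ⟨cy, hcy, hgy, -⟩ := h.exists_comm hg hy
  obtain ⟨a, ha, rfl⟩ := hp.root.eq_pow_of_pow_eq_one hcy
  obtain ⟨i, hi, rfl⟩ := hp.root.eq_pow_of_pow_eq_one hcx
  obtain ⟨b, hb, hbi⟩ : ∃ b, b < r ∧ r ∣ i + b := by
    rcases Nat.eq_zero_or_pos i with h0 | h0
    · exact ⟨0, h.prime.pos, by simp [h0]⟩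
    · exact ⟨r - i, by omega, by rw [Nat.add_sub_cancel' hi.le]⟩
  set w : G := x ^ a * y ^ b with hw
  have hwR : w ∈ R := R.mul_mem (R.pow_mem hx a) (R.pow_mem hy b)
  have hwv : (w : M) = (x : M) ^ a * (y : M) ^ b := by
    rw [hw, Units.val_mul, Units.val_pow_eq_pow_val, Units.val_pow_eq_pow_val]
  have hwx : (x : M) * w = ω ^ b • ((w : M) * x) := by
    rw [hwv, ← mul_assoc, ← pow_succ', pow_succ, mul_assoc, hp.x_ypow, mul_smul_comm, mul_assoc]
  have hwy : (w : M) * y = ω ^ a • ((y : M) * w) := by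
    rw [hwv, mul_assoc, ← pow_succ, pow_succ', ← mul_assoc]
    have := hp.xpow_ypow a 1
    rw [pow_one, mul_one] at this
    rw [this, smul_mul_assoc, mul_assoc]
  have hzero : ω ^ (i + b) = 1 := (hp.root.pow_eq_one_iff_dvd _).2 hbi
  have c1 : ∀ z : G, (∃ k : F, k ≠ 0 ∧ (g : M) * z = k • ((z : M) * g) ∧ (w : M) * z = k • ((z : M) * w)) →
      Commute (w⁻¹ * g) z := by
    rintro z ⟨k, hk, e1, e2⟩
    refine Units.ext ((Units.mul_right_inj w).1 ?_)
    simp only [Units.val_mul]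
    rw [← mul_assoc, ← mul_assoc, Units.mul_inv, one_mul, e1, ← mul_assoc (w : M), e2, smul_mul_assoc, mul_assoc,
      ← mul_assoc (w : M), Units.mul_inv, one_mul]
  refine ⟨⟨a, ha⟩, ⟨b, hb⟩, w⁻¹ * g, R.mul_mem (R.inv_mem hwR) hg,
    c1 x ⟨ω ^ i, pow_ne_zero _ hp.omega_ne_zero, hgx, ?_⟩, c1 y ⟨ω ^ a, pow_ne_zero _ hp.omega_ne_zero, hgy, hwy⟩,
    (mul_inv_cancel_left w g).symm⟩
  rw [hwx, smul_smul, ← pow_add, hzero, one_smul]

/-- `R` has a non-commuting pair. -/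
theorem exists_pair (h : Data r R) : ∃ (ω : F) (x y : G), x ∈ R ∧ y ∈ R ∧ Pair r ω x y := by
  by_cases hna : ∃ a ∈ R, ∃ b ∈ R, a * b ≠ b * a
  · obtain ⟨a, ha, b, hb, hne⟩ := hna
    obtain ⟨c, hp, -⟩ := h.pair_of_ne ha hb hne
    exact ⟨c, a, b, ha, hb, hp⟩
  exfalso
  push Not at hna
  haveI := h.nonempty
  obtain ⟨i⟩ := h.nonempty
  have hsc : ∀ s ∈ R, s ∈ scalars ι F := fun s hs => h.mem_scalars_of_central fun a ha => hna s hs a ha
  have hbig : 1 < Fintype.card ι := h.card ▸ Nat.one_lt_pow (by norm_num) h.prime.one_lt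
  let W : Submodule F (ι → F) := F ∙ (Pi.single i 1 : ι → F)
  rcases h.absIrr.1 W (by
    rintro _ ⟨s, hs, rfl⟩ _ ⟨w, hw, rfl⟩
    obtain ⟨c, hc⟩ := val_mem_scalars_iff.1 (hsc s hs)
    rw [Matrix.toLin'_apply]
    show (s : M) *ᵥ w ∈ W
    rw [hc, Matrix.smul_mulVec, Matrix.one_mulVec]
    exact W.smul_mem c hw) with h0 | h0
  · simp [W] at h0
  · have := congrArg (fun U : Submodule F (ι → F) => Module.finrank F U) h0
    simp only [W, finrank_top, Module.finrank_fintype_fun_eq_card] at this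
    rw [finrank_span_singleton (by simp)] at this
    omega

theorem exists_quad (h : Data r R) :
    ∃ (ω : F) (x₁ y₁ x₂ y₂ : G), x₁ ∈ R ∧ y₁ ∈ R ∧ x₂ ∈ R ∧ y₂ ∈ R ∧ Quad r ω x₁ y₁ x₂ y₂ := by
  obtain ⟨ω, x, y, hx, hy, hp⟩ := h.exists_pair
  by_cases hex : ∃ u ∈ R, ∃ v ∈ R, Commute u x ∧ Commute u y ∧ Commute v x ∧ Commute v y ∧ u * v ≠ v * u
  · obtain ⟨u, hu, v, hv, hux, huy, hvx, hvy, hne⟩ := hex
    obtain ⟨c, hc, -⟩ := h.pair_of_ne hu hv hne
    haveI : NeZero r := ⟨h.prime.ne_zero⟩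
    obtain ⟨k, -, hk⟩ := hc.root.eq_pow_of_pow_eq_one hp.root.pow_eq_one
    refine ⟨ω, x, y, u, v ^ k, hx, hy, hu, R.pow_mem hv k, h.card, hp,
      ⟨h.prime, hp.root, ?_⟩, hux.symm, hvx.symm.pow_right k, huy.symm, hvy.symm.pow_right k⟩
    rw [Units.val_pow_eq_pow_val, hc.x_ypow, hk]
  exfalso
  push Not at hex
  have hword : ∀ g ∈ R, ∃ (a b : Fin r) (c : F), (g : M) = c • ((x : M) ^ (a : ℕ) * (y : M) ^ (b : ℕ)) := by
    intro g hg
    obtain ⟨a, b, g', hg', hgx, hgy, rfl⟩ := h.adjust hp hx hy hg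
    have : g' ∈ scalars ι F := h.mem_scalars_of_central fun k hk => by
      obtain ⟨a', b', k', hk', hkx, hky, rfl⟩ := h.adjust hp hx hy hk
      exact (((hgx.pow_right _).mul_right (hgy.pow_right _))).mul_right (hex g' hg' k' hk' hgx hgy hkx hky)
    obtain ⟨c, hc⟩ := val_mem_scalars_iff.1 this
    exact ⟨a, b, c, by rw [Units.val_mul, hc, mul_smul_comm, mul_one, Units.val_mul, Units.val_pow_eq_pow_val,
      Units.val_pow_eq_pow_val]⟩
  -- a fixed vector of `x`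
  set E : M := ∑ k : Fin r, (x : M) ^ (k : ℕ) with hE
  have hx' : (x : M) ^ r = 1 := by rw [← Units.val_pow_eq_pow_val, h.exp x hx, Units.val_one]
  have hxE : (x : M) * E = E := by
    have h2 := mul_geom_sum (x : M) r
    rw [hx', sub_self, sub_mul, one_mul, sub_eq_zero] at h2
    rw [hE, Fin.sum_univ_eq_sum_range (fun k => (x : M) ^ k)]
    exact h2
  haveI := h.nonempty
  have hE0 : E ≠ 0 := by
    intro h0
    have h1 := hp.coeff_zero (fun t => if (t.2 : ℕ) = 0 then (1 : M) else 0)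
      (fun t => by split_ifs; exacts [Commute.one_left _, Commute.zero_left _])
      (fun t => by split_ifs; exacts [Commute.one_left _, Commute.zero_left _]) ?_
      (⟨0, h.prime.pos⟩, ⟨0, h.prime.pos⟩)
    · simp at h1
    rw [Fintype.sum_prod_type]
    refine Eq.trans ?_ h0
    rw [hE]
    refine Finset.sum_congr rfl fun a _ => ?_
    rw [Finset.sum_eq_single (⟨0, h.prime.pos⟩ : Fin r)]
    · simp [wd]
    · intro b _ hb
      rw [if_neg (fun hb' => hb (Fin.ext hb')), zero_mul]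
    · simp
  obtain ⟨w, hw⟩ : ∃ w, E *ᵥ w ≠ 0 := by
    by_contra hcon
    push Not at hcon
    exact hE0 (Matrix.toLin'.injective (LinearMap.ext fun w => by simp [hcon w]))
  set v := E *ᵥ w with hv
  have hxav : ∀ a : ℕ, (x : M) ^ a *ᵥ v = v := by
    intro a
    induction a with
    | zero => simp
    | succ a ih => rw [pow_succ, ← Matrix.mulVec_mulVec, hv, Matrix.mulVec_mulVec _ (x : M) E, hxE, ← hv, ih]
  have hy' : (y : M) ^ r = 1 := by rw [← Units.val_pow_eq_pow_val, h.exp y hy, Units.val_one]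
  let W : Submodule F (ι → F) := Submodule.span F (Set.range fun b : Fin r => (y : M) ^ (b : ℕ) *ᵥ v)
  rcases h.absIrr.1 W (by
    rintro _ ⟨g, hg, rfl⟩
    rw [Submodule.map_span, Submodule.span_le]
    rintro _ ⟨_, ⟨j, rfl⟩, rfl⟩
    obtain ⟨a, b, c, hc⟩ := hword g hg
    rw [Matrix.toLin'_apply]
    show (g : M) *ᵥ ((y : M) ^ (j : ℕ) *ᵥ v) ∈ W
    rw [hc, Matrix.smul_mulVec, Matrix.mulVec_mulVec, mul_assoc, ← pow_add, hp.xpow_ypow,
      Matrix.smul_mulVec, ← Matrix.mulVec_mulVec, hxav, pow_eq_pow_mod _ hy']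
    exact W.smul_mem _ (W.smul_mem _ (Submodule.subset_span ⟨⟨_, Nat.mod_lt _ h.prime.pos⟩, rfl⟩))) with h0 | h0
  · have : v ∈ W := Submodule.subset_span ⟨⟨0, h.prime.pos⟩, by simp⟩
    rw [h0, Submodule.mem_bot] at this
    exact hw this
  · have h1 : Module.finrank F W ≤ r := by
      have := finrank_range_le_card (R := F) (fun b : Fin r => (y : M) ^ (b : ℕ) *ᵥ v)
      rwa [Fintype.card_fin] at this
    rw [h0, finrank_top, Module.finrank_fintype_fun_eq_card, h.card] at h1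
    nlinarith [h.prime.two_le]

theorem exists_word (h : Data r R) {ω : F} {x₁ y₁ x₂ y₂ : G} (hx₁ : x₁ ∈ R) (hy₁ : y₁ ∈ R) (hx₂ : x₂ ∈ R)
    (hy₂ : y₂ ∈ R) (hq : Quad r ω x₁ y₁ x₂ y₂) {g : G} (hg : g ∈ R) :
    ∃ (t : (Fin r × Fin r) × (Fin r × Fin r)) (c : Fin r),
      (g : M) = ω ^ (c : ℕ) • (wd x₁ y₁ t.1 * wd x₂ y₂ t.2) := by
  haveI : NeZero r := ⟨h.prime.ne_zero⟩
  obtain ⟨a, b, g', hg', hgx, hgy, rfl⟩ := h.adjust hq.p₁ hx₁ hy₁ hg
  obtain ⟨a', b', g'', hg'', hgx', hgy', rfl⟩ := h.adjust hq.p₂ hx₂ hy₂ hg'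
  have hcw : ∀ {z : G}, Commute x₂ z → Commute y₂ z → Commute (x₂ ^ (a' : ℕ) * y₂ ^ (b' : ℕ) * g'') z →
      Commute g'' z := by
    intro z e1 e2 e3
    have e4 := ((e1.pow_left (a' : ℕ)).mul_left (e2.pow_left (b' : ℕ))).inv_left.mul_left e3
    simpa [mul_assoc] using e4
  have hsc := hq.mem_scalars (hcw hq.xx.symm hq.xy.symm hgx) (hcw hq.yx.symm hq.yy.symm hgy) hgx' hgy'
  obtain ⟨c, hc⟩ := val_mem_scalars_iff.1 hsc
  obtain ⟨j, hj, rfl⟩ := hq.p₁.root.eq_pow_of_pow_eq_one (h.root_of_scal hg'' hc)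
  refine ⟨((a, b), (a', b')), ⟨j, hj⟩, ?_⟩
  simp only [wd, Units.val_mul, Units.val_pow_eq_pow_val, hc, mul_smul_comm, mul_one]

theorem exists_zeta (h : Data r R) {ω : F} {x y : G} (hx : x ∈ R) (hy : y ∈ R) (hp : Pair r ω x y) :
    ∃ z ∈ R, (z : M) = ω • 1 := by
  have hne : x * y ≠ y * x := by
    intro e
    have e' := hp.rel
    rw [← Units.val_mul, e, Units.val_mul] at e'
    have h1 : ((1 : F) - ω) • ((y : M) * x) = 0 := by rw [sub_smul, one_smul, ← e', sub_self]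
    haveI := h.nonempty
    rcases smul_eq_zero.1 h1 with h2 | h2
    · exact hp.root.ne_one hp.prime.one_lt (sub_eq_zero.1 h2).symm
    · exact (y * x : G).ne_zero (by rw [Units.val_mul, h2])
  obtain ⟨c, hp', hc⟩ := h.pair_of_ne hx hy hne
  refine ⟨x * y * x⁻¹ * y⁻¹, R.mul_mem (R.mul_mem (R.mul_mem hx hy) (R.inv_mem hx)) (R.inv_mem hy), ?_⟩
  haveI := h.nonempty
  have e : (ω - c) • ((y : M) * x) = 0 := by rw [sub_smul, ← hp.rel, ← hp'.rel, sub_self]
  rcases smul_eq_zero.1 e with h2 | h2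
  · rw [sub_eq_zero.1 h2]; exact hc
  · exact absurd (by rw [Units.val_mul, h2]) (y * x : G).ne_zero

theorem card_eq (h : Data r R) : Nat.card R = r ^ 5 := by
  obtain ⟨ω, x₁, y₁, x₂, y₂, hx₁, hy₁, hx₂, hy₂, hq⟩ := h.exists_quad
  obtain ⟨z, hz, hzv⟩ := h.exists_zeta hx₁ hy₁ hq.p₁
  let φ : ((Fin r × Fin r) × (Fin r × Fin r)) × Fin r → R := fun t =>
    ⟨z ^ (t.2 : ℕ) * ((x₁ ^ (t.1.1.1 : ℕ) * y₁ ^ (t.1.1.2 : ℕ)) * (x₂ ^ (t.1.2.1 : ℕ) * y₂ ^ (t.1.2.2 : ℕ))),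
      R.mul_mem (R.pow_mem hz _) (R.mul_mem (R.mul_mem (R.pow_mem hx₁ _) (R.pow_mem hy₁ _))
        (R.mul_mem (R.pow_mem hx₂ _) (R.pow_mem hy₂ _)))⟩
  have hφ : ∀ t, ((φ t : G) : M) = ω ^ (t.2 : ℕ) • (wd x₁ y₁ t.1.1 * wd x₂ y₂ t.1.2) := by
    intro t
    simp only [φ, wd, Units.val_mul, Units.val_pow_eq_pow_val, hzv, _root_.smul_pow, one_pow, smul_mul_assoc,
      one_mul]
  have hinj : Function.Injective φ := by
    rintro ⟨s, c⟩ ⟨s', c'⟩ e
    have e' := congrArg (fun g : R => ((g : G) : M)) e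
    simp only [hφ] at e'
    have hli := hq.linearIndependent
    haveI := h.nonempty
    by_cases hs : s = s'
    · subst hs
      have e2 : (ω ^ (c : ℕ) - ω ^ (c' : ℕ)) • (wd x₁ y₁ s.1 * wd x₂ y₂ s.2) = 0 := by rw [sub_smul, e', sub_self]
      rcases smul_eq_zero.1 e2 with h2 | h2
      · rw [Fin.ext (hq.p₁.root.pow_inj c.isLt c'.isLt (sub_eq_zero.1 h2))]
      · exact absurd h2 (hli.ne_zero s)
    · exact absurd (left_eq_zero hli hs (show ω ^ (c : ℕ) • _ + -(ω ^ (c' : ℕ)) • _ = 0 by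
        rw [neg_smul, e', add_neg_cancel])) (pow_ne_zero _ hq.p₁.omega_ne_zero)
  have hsur : Function.Surjective φ := by
    rintro ⟨g, hg⟩
    obtain ⟨t, c, e⟩ := h.exists_word hx₁ hy₁ hx₂ hy₂ hq hg
    exact ⟨(t, c), Subtype.ext (Units.ext (by rw [hφ]; exact e.symm))⟩
  rw [← Nat.card_congr (Equiv.ofBijective φ ⟨hinj, hsur⟩)]
  simp only [Nat.card_prod, Nat.card_fin]
  ring

theorem pGroup (h : Data r R) : IsPGroup r R := IsPGroup.of_card h.card_eq

theorem mem_center_iff (h : Data r R) (g : R) : g ∈ Subgroup.center R ↔ (g : G) ∈ scalars ι F := by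
  rw [Subgroup.mem_center_iff]
  constructor
  · intro hg
    exact h.mem_scalars_of_central fun a ha => (congrArg Subtype.val (hg ⟨a, ha⟩)).symm
  · intro hg k
    obtain ⟨c, hc⟩ := val_mem_scalars_iff.1 hg
    exact Subtype.ext (commute_of_scal hc).eq.symm

theorem card_center (h : Data r R) : Nat.card (Subgroup.center R) = r := by
  obtain ⟨ω, x, y, hx, hy, hp⟩ := h.exists_pair
  obtain ⟨z, hz, hzv⟩ := h.exists_zeta hx hy hp
  haveI : NeZero r := ⟨h.prime.ne_zero⟩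
  haveI := h.nonempty
  let φ : Fin r → Subgroup.center R := fun k => ⟨⟨z ^ (k : ℕ), R.pow_mem hz _⟩, (h.mem_center_iff _).2
    (val_mem_scalars_iff.2 ⟨ω ^ (k : ℕ), by
      show ((z ^ (k : ℕ) : G) : M) = _
      rw [Units.val_pow_eq_pow_val, hzv, _root_.smul_pow, one_pow]⟩)⟩
  have hinj : Function.Injective φ := by
    intro a b e
    have e' := congrArg (fun g : Subgroup.center R => (((g : R) : G) : M)) e
    simp only [φ, Units.val_pow_eq_pow_val, hzv, _root_.smul_pow, one_pow] at e'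
    obtain ⟨i⟩ := h.nonempty
    have := congrFun (congrFun e' i) i
    simp at this
    exact Fin.ext (hp.root.pow_inj a.isLt b.isLt this)
  have hsur : Function.Surjective φ := by
    rintro ⟨⟨g, hg⟩, hgc⟩
    obtain ⟨c, hc⟩ := val_mem_scalars_iff.1 ((h.mem_center_iff _).1 hgc)
    obtain ⟨j, hj, rfl⟩ := hp.root.eq_pow_of_pow_eq_one (h.root_of_scal hg hc)
    refine ⟨⟨j, hj⟩, Subtype.ext (Subtype.ext (Units.ext ?_))⟩
    show ((z ^ j : G) : M) = (g : M)
    rw [Units.val_pow_eq_pow_val, hzv, _root_.smul_pow, one_pow, hc]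
  rw [← Nat.card_congr (Equiv.ofBijective φ ⟨hinj, hsur⟩), Nat.card_fin]

theorem symplecticType (h : Data r R) (hodd : Odd r) (H : Subgroup G) (hn : ∀ k ∈ H, ∀ g ∈ R, k * g * k⁻¹ ∈ R)
    (hab : ∀ A : Subgroup G, A ≤ R → (∀ k ∈ H, ∀ a ∈ A, k * a * k⁻¹ ∈ A) →
      (∀ a ∈ A, ∀ b ∈ A, a * b = b * a) → A ≤ scalars ι F) : IsSymplecticTypeGroup r R := by
  haveI := Fact.mk h.prime
  refine ⟨h.prime, h.pGroup, fun A hA hcA => ?_, ?_⟩
  · have hle : A ≤ Subgroup.center R := by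
      intro a ha
      refine (h.mem_center_iff a).2 (hab (A.map R.subtype) (Subgroup.map_subtype_le A) ?_ ?_ ⟨a, ha, rfl⟩)
      · rintro k hk _ ⟨b, hb, rfl⟩
        let e : R ≃* R :=
          { toFun := fun g => ⟨k * g * k⁻¹, hn k hk g g.2⟩
            invFun := fun g => ⟨k⁻¹ * g * k, by simpa using hn k⁻¹ (H.inv_mem hk) g g.2⟩
            left_inv := fun g => Subtype.ext (by simp [mul_assoc])
            right_inv := fun g => Subtype.ext (by simp [mul_assoc])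
            map_mul' := fun g g' => Subtype.ext (by simp [mul_assoc]) }
        exact ⟨e b, (Subgroup.characteristic_iff_map_le.1 hA e) ⟨b, hb, rfl⟩, rfl⟩
      · rintro _ ⟨b, hb, rfl⟩ _ ⟨b', hb', rfl⟩
        exact congrArg (fun t : A => ((t : R) : G)) (hcA.is_comm.comm ⟨b, hb⟩ ⟨b', hb'⟩)
    haveI : IsCyclic (Subgroup.center R) := isCyclic_of_prime_card h.card_center
    exact isCyclic_of_injective (Subgroup.inclusion hle) (Subgroup.inclusion_injective hle)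
  · rw [(Nat.coprime_two_left.2 hodd).symm.gcd_eq_one |> fun e => (Nat.gcd_comm 2 r).trans e, mul_one]
    refine (h.prime.eq_one_or_self_of_dvd _ (Monoid.exponent_dvd_of_forall_pow_eq_one fun g =>
      Subtype.ext (h.exp g g.2))).resolve_left fun e => ?_
    haveI : Subsingleton R := Monoid.exp_eq_one_iff.1 e
    have := h.card_eq
    rw [Nat.card_of_subsingleton (1 : R)] at this
    exact absurd this.symm (Nat.one_lt_pow (by norm_num) h.prime.one_lt).ne'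

end Data

namespace Quad

variable {r : ℕ} {ω : F} {x₁ y₁ x₂ y₂ : GL ι F}

/-- The shift of an index. -/
theorem exists_basis (h : Quad r ω x₁ y₁ x₂ y₂) (e1 : x₁ ^ r = 1) (e2 : y₁ ^ r = 1) (e3 : x₂ ^ r = 1)
    (e4 : y₂ ^ r = 1) :
    ∃ (e : ι ≃ Fin r × Fin r) (P : GL ι F),
      ∀ (a b c d : ℕ) (i : ι),
        (((x₁ : M) ^ a * (y₁ : M) ^ b) * ((x₂ : M) ^ c * (y₂ : M) ^ d)) *ᵥ (fun k => (P : M) k i) =
        ω ^ (a * (b + ((e i).1 : ℕ)) + c * (d + ((e i).2 : ℕ))) • fun k => (P : M) k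
          (e.symm (⟨(b + ((e i).1 : ℕ)) % r, Nat.mod_lt _ h.prime.pos⟩,
            ⟨(d + ((e i).2 : ℕ)) % r, Nat.mod_lt _ h.prime.pos⟩)) := by
  obtain ⟨e⟩ : Nonempty (ι ≃ Fin r × Fin r) :=
    ⟨Fintype.equivOfCardEq (by rw [h.card, Fintype.card_prod, Fintype.card_fin, pow_two])⟩
  have hv1 : ∀ {g : G}, g ^ r = 1 → (g : M) ^ r = 1 := fun hg => by
    rw [← Units.val_pow_eq_pow_val, hg, Units.val_one]
  set E₁ : M := ∑ k : Fin r, (x₁ : M) ^ (k : ℕ) with hE₁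
  set E₂ : M := ∑ k : Fin r, (x₂ : M) ^ (k : ℕ) with hE₂
  have hfix : ∀ (g : G), g ^ r = 1 → (g : M) * ∑ k : Fin r, (g : M) ^ (k : ℕ) = ∑ k : Fin r, (g : M) ^ (k : ℕ) := by
    intro g hg
    have h2 := mul_geom_sum (g : M) r
    rw [hv1 hg, sub_self, sub_mul, one_mul, sub_eq_zero] at h2
    rw [Fin.sum_univ_eq_sum_range (fun k => (g : M) ^ k)]
    exact h2
  have hE0 : E₁ * E₂ ≠ 0 := by
    intro h0
    have h1 := Fintype.linearIndependent_iff.1 h.linearIndependent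
      (fun t => if (t.1.2 : ℕ) = 0 ∧ (t.2.2 : ℕ) = 0 then 1 else 0) ?_
      ((⟨0, h.prime.pos⟩, ⟨0, h.prime.pos⟩), (⟨0, h.prime.pos⟩, ⟨0, h.prime.pos⟩))
    · simp at h1
    refine Eq.trans ?_ h0
    rw [hE₁, hE₂, Finset.sum_mul_sum, Fintype.sum_prod_type, Fintype.sum_prod_type]
    refine Finset.sum_congr rfl fun a _ => ?_
    rw [Finset.sum_eq_single (⟨0, h.prime.pos⟩ : Fin r) (fun b _ hb => ?_) (by simp), Fintype.sum_prod_type]
    · refine Finset.sum_congr rfl fun c _ => ?_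
      rw [Finset.sum_eq_single (⟨0, h.prime.pos⟩ : Fin r) (fun b _ hb => ?_) (by simp)]
      · simp [wd]
      · rw [if_neg (fun hb' => hb (Fin.ext hb'.2)), zero_smul]
    · exact Finset.sum_eq_zero fun t _ => by rw [if_neg (fun hb' => hb (Fin.ext hb'.1)), zero_smul]
  obtain ⟨w, hw⟩ : ∃ w, (E₁ * E₂) *ᵥ w ≠ 0 := by
    by_contra hcon
    push Not at hcon
    exact hE0 (Matrix.toLin'.injective (LinearMap.ext fun w => by simpa using hcon w))
  set v := (E₁ * E₂) *ᵥ w with hv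
  have hxv : (x₁ : M) *ᵥ v = v := by rw [hv, Matrix.mulVec_mulVec, ← mul_assoc, hE₁, hfix x₁ e1]
  have hxv2 : (x₂ : M) *ᵥ v = v := by
    have hc : Commute (x₂ : M) E₁ := Commute.sum_right _ _ _ fun k _ => (commute_val h.xx.symm).pow_right _
    rw [hv, Matrix.mulVec_mulVec, ← mul_assoc, hc.eq, mul_assoc, hE₂, hfix x₂ e3]
  have hpow : ∀ {g : G}, (g : M) *ᵥ v = v → ∀ a : ℕ, (g : M) ^ a *ᵥ v = v := by
    intro g hg a
    induction a with
    | zero => simp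
    | succ a ih => rw [pow_succ, ← Matrix.mulVec_mulVec, hg, ih]
  have hcol : ∀ a b c d : ℕ, (((x₁ : M) ^ a * (y₁ : M) ^ b) * ((x₂ : M) ^ c * (y₂ : M) ^ d)) *ᵥ v =
      ω ^ (a * b + c * d) • (((y₁ : M) ^ b * (y₂ : M) ^ d) *ᵥ v) := by
    intro a b c d
    have hc : Commute ((x₁ : M) ^ a) ((y₂ : M) ^ d) := ((commute_val h.xy).pow_left a).pow_right d
    rw [h.p₁.xpow_ypow, h.p₂.xpow_ypow, smul_mul_smul_comm, ← pow_add, Matrix.smul_mulVec, mul_assoc,
      ← mul_assoc ((x₁ : M) ^ a), hc.eq, mul_assoc, ← mul_assoc ((y₁ : M) ^ b), ← Matrix.mulVec_mulVec,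
      ← Matrix.mulVec_mulVec _ ((x₁ : M) ^ a), hpow hxv2, hpow hxv]
  let vec : ι → ι → F := fun i => ((y₁ : M) ^ ((e i).1 : ℕ) * (y₂ : M) ^ ((e i).2 : ℕ)) *ᵥ v
  have hli : LinearIndependent F vec := by
    rw [Fintype.linearIndependent_iff]
    intro c hc i
    have hz1 : ∀ b : Fin r, ∑ d : Fin r, c (e.symm (b, d)) • (((y₁ : M) ^ (b : ℕ) * (y₂ : M) ^ (d : ℕ)) *ᵥ v) = 0 := by
      refine filter_zero h.p₁.root h.p₁.cast_ne_zero _ fun k => ?_
      have h1 := congrArg (fun u => (((x₁ : M) ^ k * (y₁ : M) ^ 0) * ((x₂ : M) ^ 0 * (y₂ : M) ^ 0)) *ᵥ u) hc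
      simp only [Matrix.mulVec_sum, Matrix.mulVec_smul, Matrix.mulVec_zero, vec, Matrix.mulVec_mulVec] at h1
      simp only [pow_zero, mul_one] at h1
      rw [← e.symm.sum_comp, Fintype.sum_prod_type] at h1
      simp only [Equiv.apply_symm_apply] at h1
      have e5 : ∀ b d : Fin r, ((x₁ : M) ^ k * ((y₁ : M) ^ (b : ℕ) * (y₂ : M) ^ (d : ℕ))) *ᵥ v =
          ω ^ (k * (b : ℕ)) • (((y₁ : M) ^ (b : ℕ) * (y₂ : M) ^ (d : ℕ)) *ᵥ v) := by
        intro b d
        have := hcol k b 0 d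
        simp only [pow_zero, one_mul, zero_mul, add_zero] at this
        rwa [mul_assoc] at this
      simp only [e5, smul_comm (c _), ← Finset.smul_sum] at h1
      exact h1
    have hz2 : ∀ d : Fin r, c (e.symm ((e i).1, d)) •
        (((y₁ : M) ^ ((e i).1 : ℕ) * (y₂ : M) ^ (d : ℕ)) *ᵥ v) = 0 := by
      refine filter_zero h.p₁.root h.p₁.cast_ne_zero _ fun k => ?_
      have h1 := congrArg (fun u => ((x₂ : M) ^ k) *ᵥ u) (hz1 (e i).1)
      simp only [Matrix.mulVec_sum, Matrix.mulVec_smul, Matrix.mulVec_zero, Matrix.mulVec_mulVec] at h1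
      have e5 : ∀ d : Fin r, ((x₂ : M) ^ k * ((y₁ : M) ^ ((e i).1 : ℕ) * (y₂ : M) ^ (d : ℕ))) *ᵥ v =
          ω ^ (k * (d : ℕ)) • (((y₁ : M) ^ ((e i).1 : ℕ) * (y₂ : M) ^ (d : ℕ)) *ᵥ v) := by
        intro d
        have hc : Commute ((x₂ : M) ^ k) ((y₁ : M) ^ ((e i).1 : ℕ)) :=
          ((commute_val h.yx.symm).pow_left k).pow_right _
        have := hcol 0 (e i).1 k d
        simp only [pow_zero, one_mul, zero_mul, zero_add] at this
        rwa [← mul_assoc, hc.eq, mul_assoc]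
      simp only [e5, smul_comm (c _)] at h1
      exact h1
    have h2 := hz2 (e i).2
    rw [Prod.mk.eta, Equiv.symm_apply_apply] at h2
    refine (smul_eq_zero.1 h2).resolve_right fun h3 => hw ?_
    have hu : IsUnit ((y₁ : M) ^ ((e i).1 : ℕ) * (y₂ : M) ^ ((e i).2 : ℕ)) := (y₁.isUnit.pow _).mul (y₂.isUnit.pow _)
    exact Matrix.mulVec_injective_iff_isUnit.2 hu (h3.trans (Matrix.mulVec_zero _).symm)
  set Pm : M := Matrix.of fun k i => vec i k with hPm
  have hu : IsUnit Pm := Matrix.linearIndependent_cols_iff_isUnit.1 (by exact hli)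
  refine ⟨e, hu.unit, fun a b c d i => ?_⟩
  show _ *ᵥ vec i = _ • vec (e.symm _)
  simp only [vec, Equiv.apply_symm_apply]
  rw [← pow_eq_pow_mod _ (hv1 e2), ← pow_eq_pow_mod _ (hv1 e4), Matrix.mulVec_mulVec]
  have hc1 : Commute ((x₂ : M) ^ c * (y₂ : M) ^ d) ((y₁ : M) ^ ((e i).1 : ℕ)) :=
    ((((commute_val h.yx.symm).pow_left c).mul_left ((commute_val h.yy.symm).pow_left d))).pow_right _
  rw [show (x₁ : M) ^ a * (y₁ : M) ^ b * ((x₂ : M) ^ c * (y₂ : M) ^ d) *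
      ((y₁ : M) ^ ((e i).1 : ℕ) * (y₂ : M) ^ ((e i).2 : ℕ)) =
      ((x₁ : M) ^ a * (y₁ : M) ^ (b + ((e i).1 : ℕ))) * ((x₂ : M) ^ c * (y₂ : M) ^ (d + ((e i).2 : ℕ))) by
    rw [pow_add (y₁ : M), pow_add (y₂ : M), mul_assoc ((x₁ : M) ^ a * (y₁ : M) ^ b),
      ← mul_assoc ((x₂ : M) ^ c * (y₂ : M) ^ d), hc1.eq]
    simp only [mul_assoc]]
  exact hcol _ _ _ _

end Quad

namespace Data

variable {r : ℕ} {R : Subgroup (GL ι F)}

theorem realisableOver (h : Data r R) {ω : F} (hω : IsPrimitiveRoot ω r)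
    (F₀ : Subfield F) (hF₀ : ω ∈ F₀) : RealisableOver F₀ (matrixSet R) := by
  obtain ⟨ω', x₁, y₁, x₂, y₂, hx₁, hy₁, hx₂, hy₂, hq⟩ := h.exists_quad
  obtain ⟨e, P, hact⟩ := hq.exists_basis (h.exp _ hx₁) (h.exp _ hy₁) (h.exp _ hx₂) (h.exp _ hy₂)
  haveI : NeZero r := ⟨h.prime.ne_zero⟩
  have hω' : ω' ∈ F₀ := by
    obtain ⟨i, -, rfl⟩ := hω.eq_pow_of_pow_eq_one hq.p₁.root.pow_eq_one
    exact pow_mem hF₀ i
  refine ⟨P⁻¹, ?_⟩
  rintro _ ⟨g, hg, rfl⟩ k i
  obtain ⟨⟨⟨a, b⟩, c, d⟩, j, hgw⟩ := h.exists_word hx₁ hy₁ hx₂ hy₂ hq hg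
  simp only [inv_inv]
  set s := ω' ^ ((a : ℕ) * ((b : ℕ) + ((e i).1 : ℕ)) + (c : ℕ) * ((d : ℕ) + ((e i).2 : ℕ)))
  set i' := e.symm (⟨((b : ℕ) + ((e i).1 : ℕ)) % r, Nat.mod_lt _ h.prime.pos⟩,
    ⟨((d : ℕ) + ((e i).2 : ℕ)) % r, Nat.mod_lt _ h.prime.pos⟩)
  have hcol : ∀ k', ((g : M) * (P : M)) k' i = ω' ^ (j : ℕ) * s * (P : M) k' i' := by
    intro k'
    have h1 := congrFun (hact a b c d i) k'
    rw [hgw, Matrix.smul_mul, Matrix.smul_apply, smul_eq_mul, mul_assoc (ω' ^ (j : ℕ))]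
    exact congrArg (ω' ^ (j : ℕ) * ·) h1
  show (((P⁻¹ : G) : M) * (g : M) * (P : M)) k i ∈ F₀
  rw [mul_assoc, Matrix.mul_apply]
  simp only [hcol, mul_left_comm _ (ω' ^ (j : ℕ) * s)]
  rw [← Finset.mul_sum, ← Matrix.mul_apply, Units.inv_mul, Matrix.one_apply]
  split_ifs
  · rw [mul_one]; exact mul_mem (pow_mem hω' _) (pow_mem hω' _)
  · rw [mul_zero]; exact F₀.zero_mem

/-- A unitary form fixed by `R`. -/
theorem exists_unitary (h : Data r R) {ω : F} (hω : IsPrimitiveRoot ω r)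
    (σ : F ≃+* F) (hσ : ∀ a, σ (σ a) = a) (hne : σ ≠ RingEquiv.refl F) (hσω : σ ω = ω⁻¹) :
    ∃ f : (ι → F) → (ι → F) → F, IsUnitaryForm σ f ∧ FixesForm (matrixSet R) f := by
  obtain ⟨ω', x₁, y₁, x₂, y₂, hx₁, hy₁, hx₂, hy₂, hq⟩ := h.exists_quad
  obtain ⟨e, P, hact⟩ := hq.exists_basis (h.exp _ hx₁) (h.exp _ hy₁) (h.exp _ hx₂) (h.exp _ hy₂)
  haveI : NeZero r := ⟨h.prime.ne_zero⟩
  have hσω' : σ ω' = ω'⁻¹ := by
    obtain ⟨i, -, rfl⟩ := hω.eq_pow_of_pow_eq_one hq.p₁.root.pow_eq_one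
    rw [map_pow, hσω, inv_pow]
  have hω0 := hq.p₁.omega_ne_zero
  have hunit : ∀ n : ℕ, ω' ^ n * σ (ω' ^ n) = 1 := fun n => by
    rw [map_pow, hσω', inv_pow, mul_inv_cancel₀ (pow_ne_zero _ hω0)]
  let co : (ι → F) → ι → F := fun u => ((P⁻¹ : G) : M) *ᵥ u
  have hPco : ∀ u, (P : M) *ᵥ co u = u := fun u => by
    show (P : M) *ᵥ (((P⁻¹ : G) : M) *ᵥ u) = u
    rw [Matrix.mulVec_mulVec, Units.mul_inv, Matrix.one_mulVec]
  have hcoP : ∀ u, co ((P : M) *ᵥ u) = u := fun u => by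
    show ((P⁻¹ : G) : M) *ᵥ ((P : M) *ᵥ u) = u
    rw [Matrix.mulVec_mulVec, Units.inv_mul, Matrix.one_mulVec]
  let f : (ι → F) → (ι → F) → F := fun u w => ∑ i, co u i * σ (co w i)
  let sh : ℕ → ℕ → ι ≃ ι := fun b d =>
    (e.trans ((Equiv.addRight (Fin.ofNat r b)).prodCongr (Equiv.addRight (Fin.ofNat r d)))).trans e.symm
  have hsh : ∀ b d i, e.symm (⟨(b + ((e i).1 : ℕ)) % r, Nat.mod_lt _ h.prime.pos⟩,
      ⟨(d + ((e i).2 : ℕ)) % r, Nat.mod_lt _ h.prime.pos⟩) = sh b d i := by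
    intro b d i
    show _ = e.symm ((e i).1 + Fin.ofNat r b, (e i).2 + Fin.ofNat r d)
    congr 2 <;>
      exact Fin.ext (by rw [Fin.val_add, Fin.val_ofNat, Nat.add_mod_mod, add_comm])
  have hfix : FixesForm (matrixSet R) f := by
    rintro _ ⟨g, hg, rfl⟩ u w
    obtain ⟨⟨⟨a, b⟩, c, d⟩, j, hgw⟩ := h.exists_word hx₁ hy₁ hx₂ hy₂ hq hg
    let dd : ι → F := fun i =>
      ω' ^ ((j : ℕ) + ((a : ℕ) * ((b : ℕ) + ((e i).1 : ℕ)) + (c : ℕ) * ((d : ℕ) + ((e i).2 : ℕ))))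
    have hco : ∀ u i, co ((g : M) *ᵥ u) (sh b d i) = dd i * co u i := by
      intro u i
      have hg' : (g : M) *ᵥ u = (P : M) *ᵥ fun k => dd ((sh b d).symm k) * co u ((sh b d).symm k) := by
        conv_lhs => rw [← hPco u]
        funext k
        rw [Matrix.mulVec_mulVec]
        simp only [Matrix.mulVec, dotProduct]
        rw [← (sh b d).sum_comp (fun k' => (P : M) k k' * _)]
        refine Finset.sum_congr rfl fun i _ => ?_
        have h1 := congrFun (hact a b c d i) k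
        rw [Equiv.symm_apply_apply, hgw, Matrix.smul_mul, Matrix.smul_apply, smul_eq_mul]
        rw [show (wd x₁ y₁ (a, b) * wd x₂ y₂ (c, d) * (P : M)) k i =
          ((wd x₁ y₁ (a, b) * wd x₂ y₂ (c, d)) *ᵥ fun k' => (P : M) k' i) k from rfl, h1, Pi.smul_apply,
          smul_eq_mul, hsh]
        simp only [dd, pow_add]
        ring
      rw [hg', hcoP, Equiv.symm_apply_apply]
    show ∑ i, _ = ∑ i, _
    rw [← (sh b d).sum_comp]
    refine Finset.sum_congr rfl fun i _ => ?_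
    rw [hco, hco, map_mul, mul_mul_mul_comm, hunit, one_mul]
  refine ⟨f, ⟨hne, hσ, fun a b w => ?_, fun c a w => ?_, fun a b => ?_, fun u hu => ?_⟩, hfix⟩
  · simp only [f, co, Matrix.mulVec_add, Pi.add_apply, add_mul, Finset.sum_add_distrib]
  · simp only [f, co, Matrix.mulVec_smul, Pi.smul_apply, smul_eq_mul, Finset.mul_sum, mul_assoc]
  · simp only [f, map_sum, map_mul, hσ, mul_comm]
  · obtain ⟨i, hi⟩ : ∃ i, co u i ≠ 0 := by
      by_contra hcon
      push Not at hcon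
      exact hu (by rw [← hPco u, show co u = 0 from funext hcon, Matrix.mulVec_zero])
    refine ⟨⟨(P : M) *ᵥ Pi.single i 1, ?_⟩, ⟨(P : M) *ᵥ Pi.single i 1, ?_⟩⟩
    · simp only [f, hcoP]
      simpa [Pi.single_apply] using hi
    · simp only [f, hcoP]
      simpa [Pi.single_apply] using hi

theorem exists_root (h : Data r R) : ∃ ω : F, IsPrimitiveRoot ω r := by
  obtain ⟨ω, x, y, -, -, hp⟩ := h.exists_pair
  exact ⟨ω, hp.root⟩

/-- Class 6, or realisable over a proper subfield, or a unitary form. -/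
theorem classify [Fintype F] (h : Data r R) (hodd : Odd r) (H : Subgroup (GL ι F))
    (hn : ∀ k ∈ H, ∀ g ∈ R, k * g * k⁻¹ ∈ R)
    (hab : ∀ A : Subgroup (GL ι F), A ≤ R → (∀ k ∈ H, ∀ a ∈ A, k * a * k⁻¹ ∈ A) →
      (∀ a ∈ A, ∀ b ∈ A, a * b = b * a) → A ≤ scalars ι F) :
    (∃ F₀ : Subfield F, F₀ ≠ ⊤ ∧ RealisableOver F₀ (matrixSet R)) ∨
      IsLinearSymplecticTypeData r R ∨
      (∃ (σ : F ≃+* F) (f : (ι → F) → (ι → F) → F), IsUnitaryForm σ f ∧ FixesForm (matrixSet R) f) := by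
  obtain ⟨ω, hω⟩ := h.exists_root
  obtain ⟨p, hchar⟩ := CharP.exists F
  obtain ⟨e, hp, hcard⟩ := FiniteField.card F p
  haveI := Fact.mk hp
  haveI := Fact.mk h.prime
  haveI : NeZero r := ⟨h.prime.ne_zero⟩
  by_cases hsub : ∃ F₀ : Subfield F, F₀ ≠ ⊤ ∧ ω ∈ F₀
  · obtain ⟨F₀, hne, hmem⟩ := hsub
    exact Or.inl ⟨F₀, hne, h.realisableOver hω F₀ hmem⟩
  push Not at hsub
  have hmin : ∀ d : ℕ, 0 < d → d < (e : ℕ) → ω ^ (p ^ d) ≠ ω := by
    intro d hd hde hfix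
    let F₀ : Subfield F := (iterateFrobenius F p d).eqLocusField (RingHom.id F)
    refine hsub F₀ ?_ (by show iterateFrobenius F p d ω = ω; rw [iterateFrobenius_def, hfix])
    intro htop
    have hall : ∀ a : F, a ^ (p ^ d) = a := fun a => by
      have : a ∈ F₀ := htop ▸ Subfield.mem_top a
      rw [← iterateFrobenius_def]
      exact this
    obtain ⟨g, hg⟩ := IsCyclic.exists_ofOrder_eq_natCard (α := Fˣ)
    rw [Nat.card_units, Nat.card_eq_fintype_card, hcard] at hg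
    have hg1 : g ^ (p ^ d - 1) = 1 := by
      have h1 : g ^ (p ^ d) = g := Units.ext (by rw [Units.val_pow_eq_pow_val, hall])
      refine mul_right_cancel (b := g) ?_
      rw [← pow_succ, Nat.sub_add_cancel (Nat.one_le_pow _ _ hp.pos), h1, one_mul]
    have h2 := Nat.le_of_dvd (Nat.sub_pos_of_lt (Nat.one_lt_pow hd.ne' hp.one_lt)) (orderOf_dvd_of_pow_eq_one hg1)
    rw [hg] at h2
    have h3 := Nat.pow_lt_pow_right hp.one_lt hde
    have h4 := Nat.one_le_pow d p hp.pos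
    omega
  have hωd : ∀ d : ℕ, r ∣ p ^ d - 1 → ω ^ (p ^ d) = ω := by
    intro d hd
    have := (hω.pow_eq_one_iff_dvd _).2 hd
    conv_lhs => rw [← Nat.sub_add_cancel (Nat.one_le_pow d p hp.pos), pow_succ, this, one_mul]
  have hω0 : ω ≠ 0 := hω.ne_zero h.prime.ne_zero
  have hfrob : ω ^ (p ^ (e : ℕ)) = ω := by rw [← hcard]; exact FiniteField.pow_card ω
  have hrp : r ≠ p := by
    rintro rfl
    exact hω.neZero'.out (CharP.cast_eq_zero F r)
  have hdiv : r ∣ p ^ (e : ℕ) - 1 := by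
    refine (hω.pow_eq_one_iff_dvd _).1 (mul_right_cancel₀ hω0 ?_)
    rw [← pow_succ, Nat.sub_add_cancel (Nat.one_le_pow _ _ hp.pos), hfrob, one_mul]
  rcases Nat.even_or_odd (e : ℕ) with ⟨m, hm⟩ | he
  swap
  · refine Or.inr (Or.inl ⟨h.symplecticType hodd H hn hab, h.absIrr, p, e, hrp, ?_, Or.inl ⟨hodd, he, h.card_center,
      2, by norm_num, by rw [h.card_eq]⟩⟩)
    rw [h.card_center]
    exact ⟨hp, hchar, hcard, hdiv, fun d hd hde hdd => hmin d hd hde (hωd d hdd)⟩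
  have hm0 : 0 < m := by have := e.pos; omega
  let σ : F ≃+* F := iterateFrobeniusEquiv F p m
  have hσ : ∀ a, σ a = a ^ (p ^ m) := fun a => iterateFrobeniusEquiv_def ..
  have hσσ : ∀ a, σ (σ a) = a := fun a => by
    rw [hσ, hσ, ← pow_mul, ← pow_add, ← hm, ← hcard, FiniteField.pow_card]
  have hσω : σ ω = ω⁻¹ := by
    obtain ⟨k, hk, hkω⟩ := hω.eq_pow_of_pow_eq_one (show (σ ω) ^ r = 1 by rw [← map_pow, hω.pow_eq_one, map_one])
    have h2 : ω ^ (k * k) = ω := by rw [pow_mul, hkω, ← map_pow, hkω, hσσ]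
    have h3 : r ∣ (k + 1) * (k - 1) := by
      rcases Nat.eq_zero_or_pos k with rfl | hk0
      · simp at h2; exact absurd h2.symm (hω.ne_one h.prime.one_lt)
      refine (hω.pow_eq_one_iff_dvd _).1 (mul_right_cancel₀ hω0 ?_)
      rw [one_mul, ← pow_succ]
      conv_rhs => rw [← h2]
      congr 1
      obtain ⟨j, rfl⟩ := Nat.exists_eq_add_of_le' hk0
      simp only [Nat.add_sub_cancel]
      ring
    rcases h.prime.dvd_mul.1 h3 with h4 | h4
    · rw [← hkω]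
      refine eq_inv_of_mul_eq_one_left ?_
      rw [← pow_succ]
      exact (hω.pow_eq_one_iff_dvd _).2 h4
    · exfalso
      rcases Nat.eq_zero_or_pos (k - 1) with h5 | h5
      · rcases Nat.eq_zero_or_pos k with rfl | hk0
        · simp at h2; exact hω.ne_one h.prime.one_lt h2.symm
        refine hmin m hm0 (by omega) ?_
        rw [← hσ, ← hkω, show k = 1 by omega, pow_one]
      · have := Nat.le_of_dvd h5 h4
        omega
  have hne : σ ≠ RingEquiv.refl F := by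
    intro h1
    refine hmin m hm0 (by omega) ?_
    rw [← hσ, h1]
    rfl
  obtain ⟨f, h1, h2⟩ := h.exists_unitary hω σ hσσ hne hσω
  exact Or.inr (Or.inr ⟨σ, f, h1, h2⟩)

end Data

end Cfsg.Agent.Lib.LinNine
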