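import Cfsg.Agent.Lib.KnownA.PrimeDim.Core
import Cfsg.Agent.Lib.LinNine.SympFive

/-!
A minimal normal subgroup of class two in degree nine gives a group of symplectic type of exponent three.
-/

set_option autoImplicit false
set_option linter.style.haveILetI false
set_option linter.unusedSimpArgs false

namespace Cfsg.Agent.Lib.LinNine

open Matrix Cfsg.Agent.Lib.KnownA.PrimeDim
open Cfsg.Agent.Lib.PrimeDim.SympType (val_mem_scalars_iff)
open scoped commutatorElement

variable {ι : Type} [Fintype ι] [DecidableEq ι] {F : Type*} [Field F]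

local notation "ZZ" => Cfsg.Geo.scalars ι F

theorem eq_of_cube_eq {R : Type*} [CommRing R] [IsDomain R] {ω : R} (hω : ω * ω + ω + 1 = 0) {P Q : R}
    (h : P ^ 3 = Q ^ 3) : P = Q ∨ P = ω * Q ∨ P = ω * ω * Q := by
  have h' : (P - Q) * ((P - ω * Q) * (P - ω * ω * Q)) = 0 := by
    linear_combination h + (-(P ^ 2 * Q) + ω * P * Q ^ 2 - (ω - 1) * Q ^ 3) * hω
  rcases mul_eq_zero.1 h' with h | h
  · exact Or.inl (sub_eq_zero.1 h)
  · exact Or.inr ((mul_eq_zero.1 h).imp sub_eq_zero.1 sub_eq_zero.1)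

theorem triple_prod {S R : Type*} [CommRing S] [Ring R] [Algebra S R] {A : R} {X w c : S}
    (hw : w * w + w + 1 = 0) (hA : A ^ 3 = c • (1 : R)) :
    (X • (1 : R) - A) * (X • (1 : R) - w • A) * (X • (1 : R) - (w * w) • A) = (X ^ 3 - c) • (1 : R) := by
  have hA' : A * (A * A) = c • (1 : R) := by rw [← hA, pow_succ, pow_two, mul_assoc]
  simp only [sub_mul, mul_sub, smul_mul_assoc, mul_smul_comm, one_mul, mul_one, smul_sub, smul_smul, mul_assoc, hA']
  match_scalars
  · linear_combination (-(c * (w - 1))) * hw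
  · linear_combination (-X ^ 2) * hw
  · linear_combination (X * w) * hw

set_option maxHeartbeats 400000 in
open Polynomial in
/-- A matrix with scalar cube, conjugate to `ω` times itself, has determinant the cube of that scalar. -/
theorem det_of_conj (hcard : Fintype.card ι = 9) {x y : GL ι F} {ω a : F} (hω : ω * ω + ω + 1 = 0) (hω1 : ω ≠ 1)
    (hy : (y : Matrix ι ι F) * x * ((y⁻¹ : GL ι F) : Matrix ι ι F) = ω • (x : Matrix ι ι F))
    (hx : (x : Matrix ι ι F) ^ 3 = a • 1) : (x : Matrix ι ι F).det = a ^ 3 := by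
  set A : Matrix ι ι F[X] := (x : Matrix ι ι F).map Polynomial.C with hA
  obtain ⟨P, hP⟩ : ∃ P : F → F[X], ∀ c, P c = (Matrix.scalar ι (Polynomial.X : F[X]) - Polynomial.C c • A).det :=
    ⟨_, fun c => rfl⟩
  have hP1 : P 1 = (x : Matrix ι ι F).charpoly := by
    simp [hP, Matrix.charpoly, Matrix.charmatrix, hA]
  have hconj : ∀ c : F, P (ω * c) = P c := by
    intro c
    have e : ((y : Matrix ι ι F).map Polynomial.C) * ((y⁻¹ : GL ι F) : Matrix ι ι F).map Polynomial.C = 1 := by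
      rw [← Matrix.map_mul, Units.mul_inv]
      simp
    have hA' : Polynomial.C ω • A = (y : Matrix ι ι F).map Polynomial.C * A * ((y⁻¹ : GL ι F) : Matrix ι ι F).map Polynomial.C := by
      rw [hA, ← Matrix.map_mul, ← Matrix.map_mul, hy]
      ext i j
      simp
    have : (Matrix.scalar ι (Polynomial.X : F[X]) - Polynomial.C (ω * c) • A) = (y : Matrix ι ι F).map Polynomial.C *
        (Matrix.scalar ι (Polynomial.X : F[X]) - Polynomial.C c • A) * ((y⁻¹ : GL ι F) : Matrix ι ι F).map Polynomial.C := by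
      rw [Matrix.mul_sub, Matrix.sub_mul, ← (Matrix.scalar_commute (n := ι) (Polynomial.X : F[X]) (fun r => Commute.all _ _)
        ((y : Matrix ι ι F).map Polynomial.C)).eq, mul_assoc, e, mul_one, Matrix.mul_smul, Matrix.smul_mul, ← hA',
        smul_smul, ← map_mul, mul_comm c]
    rw [hP, hP]
    rw [this, Matrix.det_mul, Matrix.det_mul, mul_comm (Matrix.det _) (Matrix.det _), mul_assoc, ← Matrix.det_mul, e,
      Matrix.det_one, mul_one]
  have hA3 : A ^ 3 = Polynomial.C a • 1 := by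
    have := congrArg (fun m : Matrix ι ι F => m.map Polynomial.C) hx
    simp only [← RingHom.mapMatrix_apply, map_pow] at this
    rw [RingHom.mapMatrix_apply, ← hA] at this
    rw [this]
    ext i j
    by_cases hij : i = j
    · subst hij; simp
    · simp [hij]
  have hprod : P 1 ^ 3 = ((Polynomial.X ^ 3 - Polynomial.C a) ^ 3) ^ 3 := by
    have e : P 1 * P ω * P (ω * ω) = (Matrix.scalar ι ((Polynomial.X : F[X]) ^ 3 - Polynomial.C a)).det := by
      simp only [hP]
      rw [← Matrix.det_mul, ← Matrix.det_mul]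
      refine congrArg Matrix.det ?_
      have hc : Polynomial.C ω * Polynomial.C ω + Polynomial.C ω + 1 = (0 : F[X]) := by
        rw [← map_mul, ← map_add, ← map_one Polynomial.C, ← map_add, hω, map_zero]
      rw [Matrix.scalar_apply, ← Matrix.smul_one_eq_diagonal, Matrix.scalar_apply, ← Matrix.smul_one_eq_diagonal,
        map_one, one_smul, map_mul]
      exact triple_prod hc hA3
    rw [show ω * ω = ω * (ω * 1) by rw [mul_one], hconj, hconj, show P ω = P (ω * 1) by rw [mul_one], hconj] at e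
    rw [show P 1 ^ 3 = P 1 * P 1 * P 1 by ring, e, Matrix.scalar_apply, Matrix.det_diagonal, Finset.prod_const,
      Finset.card_univ, hcard, ← pow_mul]
  have hmon : (P 1).Monic := hP1 ▸ Matrix.charpoly_monic _
  have hQ : ((Polynomial.X ^ 3 - Polynomial.C a) ^ 3 : F[X]).Monic := (Polynomial.monic_X_pow_sub_C a (by norm_num)).pow 3
  have hω' : Polynomial.C ω * Polynomial.C ω + Polynomial.C ω + 1 = (0 : F[X]) := by
    rw [← map_mul, ← map_add, ← map_one Polynomial.C, ← map_add, hω, map_zero]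
  have hPQ : P 1 = (Polynomial.X ^ 3 - Polynomial.C a) ^ 3 := by
    have hlead : ∀ c : F, P 1 = Polynomial.C c * (Polynomial.X ^ 3 - Polynomial.C a) ^ 3 → c = 1 := by
      intro c hc
      have := congrArg Polynomial.leadingCoeff hc
      rw [hmon, Polynomial.leadingCoeff_mul, Polynomial.leadingCoeff_C, hQ, mul_one] at this
      exact this.symm
    rcases eq_of_cube_eq hω' hprod with h | h | h
    · exact h
    · exact absurd (hlead ω h) hω1
    · rw [← map_mul] at h
      refine absurd ?_ hω1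
      linear_combination (ω - 1) * hω - ω * (hlead _ h)
  rw [Matrix.det_eq_sign_charpoly_coeff, ← hP1, hPQ, Polynomial.coeff_zero_eq_eval_zero, hcard]
  simp
  ring

/-- Multiplying a commutator by scalars. -/
theorem mem_sup_scalars {A : Subgroup (GL ι F)} {x : GL ι F} (hx : x ∈ A ⊔ ZZ) :
    ∃ a ∈ A, ∃ z ∈ ZZ, x = a * z := by
  haveI : (ZZ).Normal := Cfsg.Geo.scalars_normal
  obtain ⟨a, ha, z, hz, rfl⟩ := Subgroup.mem_sup_of_normal_right.1 hx
  exact ⟨a, ha, z, hz, rfl⟩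

theorem class_two [Finite F] (hcard : Fintype.card ι = 9) {H N : Subgroup (GL ι F)}
    (hSL : H ≤ Cfsg.Geo.specialLinear ι F) (hle : N ≤ H) (hnorm : Norms H N) (hns : ¬ N ≤ ZZ) (hZ : ZZ ⊓ H ≤ N)
    (hmin : ∀ M : Subgroup (GL ι F), M ≤ N → Norms H M → ¬ M ≤ ZZ → M ⊔ (ZZ ⊓ H) = N)
    (hN : Cfsg.Geo.ActsAbsolutelyIrreducibly (Cfsg.Geo.matrixSet N)) (hcomm : ⁅N, N⁆ ≤ ZZ) :
    ∃ R : Subgroup (GL ι F), R ≤ H ∧ Norms H R ∧ ¬ R ≤ ZZ ∧ Data 3 R ∧
      ∀ A : Subgroup (GL ι F), A ≤ R → (∀ k ∈ H, ∀ a ∈ A, k * a * k⁻¹ ∈ A) →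
        (∀ a ∈ A, ∀ b ∈ A, a * b = b * a) → A ≤ ZZ := by
  haveI : Nonempty ι := Fintype.card_pos_iff.1 (by omega)
  haveI : (ZZ).Normal := Cfsg.Geo.scalars_normal
  have hcs : ∀ x ∈ N, ∀ y ∈ N, x * y * x⁻¹ * y⁻¹ ∈ ZZ := fun x hx y hy => by
    rw [← commutatorElement_def]; exact hcomm (Subgroup.commutator_mem_commutator hx hy)
  have hscalc : ∀ {z : GL ι F}, z ∈ ZZ → ∀ g, Commute z g := fun hz g => (scalars_comm hz g).symm
  -- scalars of H have order dividing nine
  have hnine : ∀ z ∈ H, z ∈ ZZ → z ^ 9 = 1 := by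
    intro z hz hzs
    obtain ⟨c, hc⟩ := val_mem_scalars_iff.1 hzs
    have hdet : (z : Matrix ι ι F).det = 1 := by
      have := congrArg Units.val (MonoidHom.mem_ker.1 (hSL hz))
      simpa using this
    rw [hc, Matrix.det_smul, Matrix.det_one, mul_one, hcard] at hdet
    exact Units.ext (by rw [Units.val_pow_eq_pow_val, hc, _root_.smul_pow, one_pow, hdet, one_smul, Units.val_one])
  -- powers of products
  have hpow : ∀ x ∈ N, ∀ y ∈ N, ∀ k : ℕ, (x * y) ^ k = (y * x * y⁻¹ * x⁻¹) ^ (k.choose 2) * (x ^ k * y ^ k) := by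
    intro x hx y hy k
    have hc := hscalc (hcs y hy x hx)
    set c := y * x * y⁻¹ * x⁻¹ with hcdef
    have hyx : y * x = c * (x * y) := by rw [hcdef]; group
    have hykx : ∀ k : ℕ, y ^ k * x = c ^ k * (x * y ^ k) := by
      intro k
      induction k with
      | zero => simp
      | succ k ih =>
        rw [pow_succ y, mul_assoc, hyx, ← mul_assoc, ← (hc (y ^ k)).eq, mul_assoc, ← mul_assoc (y ^ k), ih,
          pow_succ', mul_assoc (c ^ k), mul_assoc x, mul_assoc c]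
    induction k with
    | zero => simp
    | succ k ih =>
      rw [pow_succ, ih, mul_assoc, mul_assoc (x ^ k), ← mul_assoc (y ^ k), hykx, Nat.choose_succ_succ,
        Nat.choose_one_right, add_comm k, pow_add c, pow_succ x, pow_succ y, mul_assoc (c ^ k), ← mul_assoc (x ^ k),
        ← ((hc (x ^ k)).pow_left k).eq]
      simp only [mul_assoc]
  -- all elements have a prime power scalar
  obtain ⟨x₀, hx₀, hx₀s⟩ : ∃ x ∈ N, x ∉ ZZ := Set.not_subset.1 hns
  let π := QuotientGroup.mk' ZZ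
  have hπ : ∀ g : GL ι F, π g = 1 ↔ g ∈ ZZ := fun g => QuotientGroup.eq_one_iff g
  haveI : Finite (GL ι F) := inferInstance
  have hne1 : orderOf (π x₀) ≠ 1 := fun h => hx₀s ((hπ _).1 (orderOf_eq_one_iff.1 h))
  obtain ⟨q, hq, hqd⟩ := Nat.exists_prime_and_dvd hne1
  have hqall : ∀ x ∈ N, x ^ q ∈ ZZ := by
    let Nq : Subgroup (GL ι F) :=
      { carrier := {x | x ∈ N ∧ x ^ q ∈ ZZ}
        mul_mem' := by
          rintro a b ⟨ha, ha'⟩ ⟨hb, hb'⟩
          exact ⟨N.mul_mem ha hb, by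
            rw [hpow a ha b hb]; exact mul_mem (pow_mem (hcs b hb a ha) _) (mul_mem ha' hb')⟩
        one_mem' := ⟨N.one_mem, by rw [one_pow]; exact one_mem _⟩
        inv_mem' := by
          rintro a ⟨ha, ha'⟩
          exact ⟨N.inv_mem ha, by rw [inv_pow]; exact inv_mem ha'⟩ }
    have hn : Norms H Nq := fun h hh a ha => ⟨hnorm h hh a ha.1, by
      rw [conj_pow]; exact Cfsg.Geo.scalars_normal.conj_mem _ ha.2 h⟩
    have hns' : ¬ Nq ≤ ZZ := by
      intro hsub
      have hmem : x₀ ^ (orderOf (π x₀) / q) ∈ Nq := ⟨N.pow_mem hx₀ _, (hπ _).1 (by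
        rw [← pow_mul, Nat.div_mul_cancel hqd, map_pow, pow_orderOf_eq_one])⟩
      have h1 := (hπ _).2 (hsub hmem)
      rw [map_pow] at h1
      have h2 := Nat.le_of_dvd (Nat.div_pos (Nat.le_of_dvd (orderOf_pos _) hqd) hq.pos) (orderOf_dvd_of_pow_eq_one h1)
      exact absurd h2 (Nat.not_le.2 (Nat.div_lt_self (orderOf_pos _) hq.one_lt))
    have hle' : ZZ ⊓ H ≤ Nq := fun z hz => ⟨hZ hz, pow_mem hz.1 q⟩
    have hall := hmin Nq (fun a ha => ha.1) hn hns'
    rw [sup_eq_left.2 hle'] at hall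
    exact fun x hx => (hall.ge hx).2
  -- commutators
  have hexy : ∀ x ∈ N, x ∉ ZZ → ∃ y ∈ N, x * y ≠ y * x := by
    intro x hx hxs
    by_contra hcon
    push Not at hcon
    refine hxs (val_mem_scalars_iff.2 (hN.2 _ ?_))
    rintro _ ⟨y, hy, rfl⟩
    show (x : Matrix ι ι F) * y = (y : Matrix ι ι F) * x
    rw [← Units.val_mul, hcon y hy, Units.val_mul]
  have hcpow : ∀ x ∈ N, ∀ y ∈ N, (x * y * x⁻¹ * y⁻¹) ^ q = 1 := by
    intro x hx y hy
    have hc := hscalc (hcs x hx y hy)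
    set c := x * y * x⁻¹ * y⁻¹ with hcdef
    have hxy : x * y * x⁻¹ = c * y := by rw [hcdef]; group
    have h1 : (x * y * x⁻¹) ^ q = y ^ q := by
      rw [conj_pow, ← (hscalc (hqall y hy) x).eq, mul_inv_cancel_right]
    rw [hxy, (hc y).mul_pow] at h1
    exact mul_eq_right.1 h1
  have hq3 : q = 3 := by
    obtain ⟨y, hy, hne⟩ := hexy x₀ hx₀ hx₀s
    set c := x₀ * y * x₀⁻¹ * y⁻¹ with hcdef
    have hc1 : c ≠ 1 := fun h => hne (by
      calc x₀ * y = c * (y * x₀) := by rw [hcdef]; group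
        _ = y * x₀ := by rw [h, one_mul])
    have hcH : c ∈ H := H.mul_mem (H.mul_mem (H.mul_mem (hle hx₀) (hle hy)) (H.inv_mem (hle hx₀))) (H.inv_mem (hle hy))
    haveI := Fact.mk hq
    have ho := orderOf_eq_prime (hcpow x₀ hx₀ y hy) hc1
    have h9 := orderOf_dvd_of_pow_eq_one (hnine c hcH (hcs x₀ hx₀ y hy))
    rw [ho] at h9
    exact (Nat.prime_dvd_prime_iff_eq hq Nat.prime_three).1 (hq.dvd_of_dvd_pow (show q ∣ 3 ^ 2 from h9))
  subst hq3
  -- cubes of cubes are trivial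
  have hx9 : ∀ x ∈ N, (x ^ 3) ^ 3 = 1 := by
    intro x hx
    by_cases hxs : x ∈ ZZ
    · rw [← pow_mul]; exact hnine x (hle hx) hxs
    obtain ⟨y, hy, hne⟩ := hexy x hx hxs
    obtain ⟨a, ha⟩ := val_mem_scalars_iff.1 (hqall x hx)
    have hc := hcs y hy x hx
    have hc3 := hcpow y hy x hx
    set c := y * x * y⁻¹ * x⁻¹ with hcdef
    obtain ⟨ω, hωv⟩ := val_mem_scalars_iff.1 hc
    have hω1 : ω ≠ 1 := fun h => hne (by
      have : c = 1 := Units.ext (by rw [hωv, h, one_smul, Units.val_one])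
      calc x * y = c * (x * y) := by rw [this, one_mul]
        _ = y * x := by rw [hcdef]; group)
    have hω3 : ω ^ 3 = 1 := by
      have := congrArg Units.val hc3
      rw [Units.val_pow_eq_pow_val, hωv, _root_.smul_pow, one_pow, Units.val_one] at this
      obtain ⟨i⟩ := (inferInstance : Nonempty ι)
      simpa using congrFun (congrFun this i) i
    have hω : ω * ω + ω + 1 = 0 := by
      have : (ω - 1) * (ω * ω + ω + 1) = 0 := by linear_combination hω3
      exact (mul_eq_zero.1 this).resolve_left (sub_ne_zero.2 hω1)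
    have hy' : (y : Matrix ι ι F) * x * ((y⁻¹ : GL ι F) : Matrix ι ι F) = ω • (x : Matrix ι ι F) := by
      rw [← Units.val_mul, ← Units.val_mul, show y * x * y⁻¹ = c * x by rw [hcdef]; group, Units.val_mul, hωv,
        smul_mul_assoc, one_mul]
    have hx3 : (x : Matrix ι ι F) ^ 3 = a • 1 := by rw [← Units.val_pow_eq_pow_val, ha]
    have hdet := det_of_conj hcard hω hω1 hy' hx3
    have hd1 : (x : Matrix ι ι F).det = 1 := by
      have := congrArg Units.val (MonoidHom.mem_ker.1 (hSL (hle hx)))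
      simpa using this
    exact Units.ext (by
      rw [Units.val_pow_eq_pow_val, ha, _root_.smul_pow, one_pow, ← hdet, hd1, one_smul, Units.val_one])
  have hcube : ∀ a ∈ N, ∀ b ∈ N, (a * b) ^ 3 = a ^ 3 * b ^ 3 := fun a ha b hb => by
    rw [hpow a ha b hb, show Nat.choose 3 2 = 3 from rfl, hcpow b hb a ha, one_mul]
  let K : Subgroup (GL ι F) :=
    { carrier := {x | x ∈ N ∧ x ^ 3 = 1}
      mul_mem' := by
        rintro a b ⟨ha, ha'⟩ ⟨hb, hb'⟩
        exact ⟨N.mul_mem ha hb, by rw [hcube a ha b hb, ha', hb', one_mul]⟩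
      one_mem' := ⟨N.one_mem, one_pow 3⟩
      inv_mem' := by
        rintro a ⟨ha, ha'⟩
        exact ⟨N.inv_mem ha, by rw [inv_pow, ha', inv_one]⟩ }
  have hKN : K ≤ N := fun a ha => ha.1
  have hKn : Norms H K := fun h hh a ha => ⟨hnorm h hh a ha.1, by rw [conj_pow, ha.2, mul_one, mul_inv_cancel]⟩
  obtain ⟨y₀, hy₀, hne₀⟩ := hexy x₀ hx₀ hx₀s
  have hKs : ¬ K ≤ ZZ := by
    intro hsub
    by_cases h1 : x₀ ^ 3 = 1
    · exact hx₀s (hsub ⟨hx₀, h1⟩)
    obtain ⟨a, ha⟩ := val_mem_scalars_iff.1 (hqall x₀ hx₀)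
    obtain ⟨b, hb⟩ := val_mem_scalars_iff.1 (hqall y₀ hy₀)
    have hroot : ∀ (g : GL ι F) (u : F), g ∈ N → ((g ^ 3 : GL ι F) : Matrix ι ι F) = u • 1 → u ^ 3 = 1 := by
      intro g u hg hu
      have := congrArg Units.val (hx9 g hg)
      rw [Units.val_pow_eq_pow_val, hu, _root_.smul_pow, one_pow, Units.val_one] at this
      obtain ⟨i⟩ := (inferInstance : Nonempty ι)
      simpa using congrFun (congrFun this i) i
    have ha1 : a ≠ 1 := fun e => h1 (Units.ext (by rw [ha, e, one_smul, Units.val_one]))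
    have hpr : IsPrimitiveRoot a 3 := by
      haveI := Fact.mk Nat.prime_three
      exact IsPrimitiveRoot.iff_orderOf.2 (orderOf_eq_prime (hroot x₀ a hx₀ ha) ha1)
    obtain ⟨k, -, hk⟩ := hpr.eq_pow_of_pow_eq_one (hroot y₀ b hy₀ hb)
    have hyk : y₀ ^ 3 = (x₀ ^ 3) ^ k := Units.ext (by
      rw [hb, Units.val_pow_eq_pow_val, ha, _root_.smul_pow, one_pow, hk])
    have hmem : y₀ * (x₀ ^ k)⁻¹ ∈ K := ⟨N.mul_mem hy₀ (N.inv_mem (N.pow_mem hx₀ k)), by
      rw [hcube _ hy₀ _ (N.inv_mem (N.pow_mem hx₀ k)), inv_pow, hyk, ← pow_mul, ← pow_mul, mul_comm k 3,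
        mul_inv_cancel]⟩
    refine hne₀ ?_
    have h2 : Commute (y₀ * (x₀ ^ k)⁻¹) x₀ := hscalc (hsub hmem) x₀
    have h3 : Commute (y₀ * (x₀ ^ k)⁻¹ * x₀ ^ k) x₀ := h2.mul_left ((Commute.refl x₀).pow_left k)
    rw [inv_mul_cancel_right] at h3
    exact h3.eq.symm
  have hKZ := hmin K hKN hKn hKs
  have hNK : N ≤ K ⊔ ZZ := hKZ.ge.trans (sup_le_sup_left inf_le_left _)
  have habs := absIrred_of_sup hN hNK
  refine ⟨K, hKN.trans hle, hKn, hKs, ⟨by rw [hcard]; norm_num, Nat.prime_three, fun z hz _ => hz.2,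
    fun a ha b hb => hcs a (hKN ha) b (hKN hb), fun g hg => hg.2, habs⟩, fun A hA hAn hAc => ?_⟩
  by_contra hAs
  have hAZ := hmin A (hA.trans hKN) hAn hAs
  obtain ⟨a, ha, z, hz, rfl⟩ := mem_sup_scalars ((hAZ.ge.trans (sup_le_sup_left inf_le_left _)) hx₀)
  obtain ⟨b, hb, w, hw, rfl⟩ := mem_sup_scalars ((hAZ.ge.trans (sup_le_sup_left inf_le_left _)) hy₀)
  refine hne₀ ?_
  exact ((show Commute a b from hAc a ha b hb).mul_right (hscalc hw a).symm).mul_left (hscalc hz (b * w))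

end Cfsg.Agent.Lib.LinNine
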