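import Cfsg.Agent.Lib.KnownA.PrimeDim.Core

/-!
A minimal normal non-scalar subgroup which is absolutely irreducible: class two modulo scalars, a residual core, or
two commuting factors permuted by the group.
-/

set_option autoImplicit false
set_option linter.style.haveILetI false
set_option linter.unusedSimpArgs false

namespace Cfsg.Agent.Lib.LinNine

open Matrix Module Cfsg.Agent.Lib.KnownA.PrimeDim
open scoped Matrix commutatorElement

variable {ι : Type} [Fintype ι] [DecidableEq ι] {F : Type*} [Field F]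

local notation "GLn" => Matrix.GeneralLinearGroup ι F
local notation "MM" => Matrix ι ι F
local notation "ZZ" => Cfsg.Geo.scalars ι F
local notation "nn" => Fintype.card ι

/-- Two commuting normal subgroups of an absolutely irreducible group, permuted by `H` once their joint
centraliser is scalar. -/
def FactorPair (H : Subgroup GLn) : Prop :=
  ∃ P M₁ M₂ : Subgroup GLn, Cfsg.Geo.ActsAbsolutelyIrreducibly (Cfsg.Geo.matrixSet P) ∧ M₁ ≤ P ∧ M₂ ≤ P ∧
    Norms P M₁ ∧ Norms P M₂ ∧ (∃ a ∈ M₁, ∃ b ∈ M₁, a * b ≠ b * a) ∧ (∃ a ∈ M₂, ∃ b ∈ M₂, a * b ≠ b * a) ∧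
    (∀ x ∈ M₁, ∀ y ∈ M₂, x * y = y * x) ∧
    ((∀ y : GLn, (∀ x ∈ M₁, y * x = x * y) → (∀ x ∈ M₂, y * x = x * y) → y ∈ ZZ) → ∀ h ∈ H,
      (M₁.map (MulAut.conj h).toMonoidHom = M₁ ∧ M₂.map (MulAut.conj h).toMonoidHom = M₂) ∨
      (M₁.map (MulAut.conj h).toMonoidHom = M₂ ∧ M₂.map (MulAut.conj h).toMonoidHom = M₁))

set_option maxHeartbeats 800000 in
/-- **The dichotomy.** -/
theorem class_two_or_core [Finite F] (hn : 0 < nn) {H N : Subgroup GLn}
    (hle : N ≤ H) (hnorm : Norms H N)
    (hmin : ∀ M : Subgroup GLn, M ≤ N → Norms H M → ¬ M ≤ ZZ → M ⊔ (ZZ ⊓ H) = N)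
    (hN : Cfsg.Geo.ActsAbsolutelyIrreducibly (Cfsg.Geo.matrixSet N)) :
    ⁅N, N⁆ ≤ ZZ ∨ Core H ⁅N, N⁆ ∨ FactorPair H := by
  by_cases hcomm : ⁅N, N⁆ ≤ ZZ
  · exact Or.inl hcomm
  right
  haveI : Nonempty ι := Fintype.card_pos_iff.mp hn
  haveI : (Cfsg.Geo.scalars ι F).Normal := Cfsg.Geo.scalars_normal
  set P := ⁅N, N⁆ with hPdef
  have hPN : P ≤ N := Subgroup.commutator_le.mpr fun a ha b hb =>
    mul_mem (mul_mem (mul_mem ha hb) (inv_mem ha)) (inv_mem hb)
  have hPnorm : Norms H P := hnorm.commutator hnorm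
  have hNP : N ≤ P ⊔ ZZ := (hmin P hPN hPnorm hcomm).ge.trans (sup_le_sup_left inf_le_left _)
  have hperf : ⁅P, P⁆ = P := by
    refine le_antisymm (Subgroup.commutator_mono hPN hPN) ?_
    calc P = ⁅N, N⁆ := hPdef
      _ ≤ ⁅P ⊔ ZZ, P ⊔ ZZ⁆ := Subgroup.commutator_mono hNP hNP
      _ = ⁅P, P⁆ := commutator_sup_scalar P
  have hPabs := absIrred_of_sup hN hNP
  -- no proper non-scalar normal subgroup over the scalars
  by_cases hpair : FactorPair H
  · exact Or.inr hpair
  left
  have hsimp : ∀ M : Subgroup GLn, M ≤ P → Norms P M → ZZ ⊓ P ≤ M → ¬ M ≤ ZZ → M = P := by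
    intro M' hM'P hPM' hZM' hM's
    obtain ⟨M, ⟨hMM', hPM, hZM, hMs⟩, hMmin⟩ := Set.Finite.exists_minimal
      (Set.toFinite {M : Subgroup GLn | M ≤ M' ∧ Norms P M ∧ ZZ ⊓ P ≤ M ∧ ¬ M ≤ ZZ})
      ⟨M', le_rfl, hPM', hZM', hM's⟩
    suffices M = P from le_antisymm hM'P (this.symm.le.trans hMM')
    have hMP : M ≤ P := hMM'.trans hM'P
    let c : H → Subgroup GLn := fun h => M.map (MulAut.conj (h : GLn)).toMonoidHom
    have hcP : ∀ h : H, c h ≤ P := by
      rintro h _ ⟨x, hx, rfl⟩
      exact hPnorm _ h.2 x (hMP hx)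
    have hcnorm : ∀ h : H, Norms P (c h) := by
      rintro ⟨h, hh⟩ p hp' _ ⟨x, hx, rfl⟩
      refine ⟨(h⁻¹ * p * h) * x * (h⁻¹ * p * h)⁻¹, hPM _ ?_ x hx, ?_⟩
      · simpa using hPnorm h⁻¹ (inv_mem hh) p hp'
      · simp [mul_assoc]
    have hcs : ∀ (h : H) (K : Subgroup GLn), K ≤ c h → Norms P K → ZZ ⊓ P ≤ K → ¬ K ≤ ZZ → c h ≤ K := by
      rintro ⟨h, hh⟩ K hK hKn hKz hKs _ ⟨x, hx, rfl⟩
      have hpre : M ≤ K.comap (MulAut.conj h).toMonoidHom := by
        refine (le_inf le_rfl ?_ : M ≤ M ⊓ K.comap (MulAut.conj h).toMonoidHom).trans inf_le_right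
        refine (hMmin ⟨inf_le_left.trans hMM', ?_, ?_, fun hsub => hKs fun y hy => ?_⟩ inf_le_left).trans
          inf_le_right
        · intro p hp' y hy
          refine ⟨hPM p hp' y hy.1, ?_⟩
          have := hKn (h * p * h⁻¹) (hPnorm h hh p hp') (h * y * h⁻¹) hy.2
          show h * (p * y * p⁻¹) * h⁻¹ ∈ K
          convert this using 1
          group
        · intro z hz
          refine ⟨hZM hz, ?_⟩
          show h * z * h⁻¹ ∈ K
          rw [scalars_comm hz.1 h, mul_inv_cancel_right]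
          exact hKz hz
        · obtain ⟨u, hu, rfl⟩ := hK hy
          exact Cfsg.Geo.scalars_normal.conj_mem u (hsub ⟨hu, hy⟩) h
      exact hpre hx
    by_cases hstable : Norms H M
    · refine le_antisymm hMP ?_
      calc P = ⁅N, N⁆ := hPdef
        _ ≤ ⁅M ⊔ ZZ, M ⊔ ZZ⁆ := by
            have := (hmin M (hMP.trans hPN) hstable hMs).ge.trans (sup_le_sup_left inf_le_left _)
            exact Subgroup.commutator_mono this this
        _ = ⁅M, M⁆ := commutator_sup_scalar M
        _ ≤ M := Subgroup.commutator_le.mpr fun a ha b hb =>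
            mul_mem (mul_mem (mul_mem ha hb) (inv_mem ha)) (inv_mem hb)
    exfalso
    -- distinct conjugates commute modulo scalars
    have hdist : ∀ h k : H, c h ≠ c k → ∀ x ∈ c h, ∀ y ∈ c k, ⁅x, y⁆ ∈ ZZ := by
      intro h k hne x hx y hy
      by_contra hxy
      have hzc : ∀ g : H, ZZ ⊓ P ≤ c g := fun g z hz =>
        ⟨z, hZM hz, by simp [scalars_comm hz.1 (g : GLn)]⟩
      have hK1 : Norms P (c h ⊓ c k) := (hcnorm h).inf (hcnorm k)
      have hmem : ⁅x, y⁆ ∈ c h ⊓ c k := by
        refine Subgroup.mem_inf.mpr ⟨?_, ?_⟩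
        · rw [commutatorElement_def, mul_assoc (x * y), mul_assoc x]
          exact mul_mem hx (by
            simpa [mul_assoc] using hcnorm h y (hcP k hy) x⁻¹ (inv_mem hx))
        · rw [commutatorElement_def]
          exact mul_mem (hcnorm k x (hcP h hx) y hy) (inv_mem hy)
      have hKs : ¬ c h ⊓ c k ≤ ZZ := fun hsub => hxy (hsub hmem)
      exact hne ((le_antisymm inf_le_left (hcs h _ inf_le_left hK1 (le_inf (hzc h) (hzc k)) hKs)).symm.trans
        (le_antisymm inf_le_right (hcs k _ inf_le_right hK1 (le_inf (hzc h) (hzc k)) hKs)))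
    have hc1 : c 1 = M := by
      ext x
      simp [c]
    obtain ⟨k, hk⟩ : ∃ k : H, c k ≠ M := by
      by_contra hall
      push Not at hall
      exact hstable fun h hh x hx => (hall ⟨h, hh⟩).le ⟨x, hx, rfl⟩
    by_cases hMM : ⁅M, M⁆ ≤ ZZ
    · -- all conjugates commute modulo scalars
      let π := QuotientGroup.mk' (Cfsg.Geo.scalars ι F)
      have hπ : ∀ x y : GLn, ⁅x, y⁆ ∈ ZZ ↔ π x * π y = π y * π x := fun x y => by
        rw [← commutatorElement_eq_one_iff_mul_comm, ← map_commutatorElement]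
        exact (QuotientGroup.eq_one_iff _).symm
      let U : Set GLn := {x | ∃ h : H, x ∈ c h}
      have hU : ∀ x ∈ U, ∀ y ∈ U, π x * π y = π y * π x := by
        rintro x ⟨h, hx⟩ y ⟨l, hy⟩
        rw [← hπ]
        by_cases hne : c h = c l
        · rw [← hne] at hy
          obtain ⟨a, ha, rfl⟩ := hx
          obtain ⟨b, hb, rfl⟩ := hy
          rw [← map_commutatorElement (MulAut.conj (h : GLn)).toMonoidHom]
          exact Cfsg.Geo.scalars_normal.conj_mem _ (hMM (Subgroup.commutator_mem_commutator ha hb)) _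
        · exact hdist h l hne x hx y hy
      have hJ : ∀ x ∈ Subgroup.closure U, ∀ y ∈ Subgroup.closure U, π x * π y = π y * π x := by
        have h1 : Subgroup.closure U ≤ (Subgroup.centralizer (π '' U)).comap π := by
          rw [Subgroup.closure_le]
          rintro x hx _ ⟨y, hy, rfl⟩
          exact hU y hy x hx
        intro x hx y hy
        have h2 : Subgroup.closure U ≤ (Subgroup.centralizer (π '' (Subgroup.closure U : Set GLn))).comap π := by
          rw [Subgroup.closure_le]
          rintro u hu _ ⟨v, hv, rfl⟩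
          exact (h1 hv (π u) ⟨u, hu, rfl⟩).symm
        exact h2 hy (π x) ⟨x, hx, rfl⟩
      have hJn : Norms H (Subgroup.closure U) := by
        intro g hg x hx
        induction hx using Subgroup.closure_induction with
        | mem v hv =>
          obtain ⟨h, u, hu, rfl⟩ := hv
          exact Subgroup.subset_closure ⟨⟨g, hg⟩ * h, u, hu, by simp [mul_assoc]⟩
        | one => simp
        | mul a b _ _ iha ihb =>
          rw [show g * (a * b) * g⁻¹ = (g * a * g⁻¹) * (g * b * g⁻¹) by group]
          exact mul_mem iha ihb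
        | inv a _ iha =>
          rw [show g * a⁻¹ * g⁻¹ = (g * a * g⁻¹)⁻¹ by group]
          exact inv_mem iha
      have hJN : Subgroup.closure U ≤ N := by
        rw [Subgroup.closure_le]
        rintro x ⟨h, hx⟩
        exact hPN (hcP h hx)
      have hJs : ¬ Subgroup.closure U ≤ ZZ := fun hsub =>
        hMs fun x hx => hsub (Subgroup.subset_closure ⟨1, hc1.ge hx⟩)
      have := (hmin _ hJN hJn hJs).ge.trans (sup_le_sup_left inf_le_left _)
      apply hcomm
      calc P = ⁅N, N⁆ := hPdef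
        _ ≤ ⁅Subgroup.closure U ⊔ ZZ, Subgroup.closure U ⊔ ZZ⁆ := Subgroup.commutator_mono this this
        _ = ⁅Subgroup.closure U, Subgroup.closure U⁆ := commutator_sup_scalar _
        _ ≤ ZZ := Subgroup.commutator_le.mpr fun x hx y hy => (hπ x y).mpr (hJ x hx y hy)
    · -- a second conjugate would centralise an absolutely irreducible group
      have hD : M ≤ ⁅M, M⁆ ⊔ ZZ := by
        refine le_trans (hMmin ⟨?_, ((hPM.commutator hPM).sup ((Norms.scalars P).inf (Norms.self P))),
          le_sup_right, fun h => hMM (le_sup_left.trans h)⟩ ?_) (sup_le_sup_left inf_le_left _)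
        · exact (sup_le (Subgroup.commutator_le.mpr fun a ha b hb =>
            mul_mem (mul_mem (mul_mem ha hb) (inv_mem ha)) (inv_mem hb)) hZM).trans hMM'
        · exact sup_le (Subgroup.commutator_le.mpr fun a ha b hb =>
            mul_mem (mul_mem (mul_mem ha hb) (inv_mem ha)) (inv_mem hb)) hZM
      have hD2 : ⁅M, M⁆ ≤ M := Subgroup.commutator_le.mpr fun a ha b hb =>
        mul_mem (mul_mem (mul_mem ha hb) (inv_mem ha)) (inv_mem hb)
      have hDD : ⁅M, M⁆ = ⁅⁅M, M⁆, ⁅M, M⁆⁆ := by
        refine le_antisymm ?_ (Subgroup.commutator_mono hD2 hD2)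
        calc ⁅M, M⁆ ≤ ⁅⁅M, M⁆ ⊔ ZZ, ⁅M, M⁆ ⊔ ZZ⁆ := Subgroup.commutator_mono hD hD
          _ = _ := commutator_sup_scalar _
      let D : H → Subgroup GLn := fun h => (⁅M, M⁆ : Subgroup GLn).map (MulAut.conj (h : GLn)).toMonoidHom
      have hDc : ∀ h, D h ≤ c h := fun h => Subgroup.map_mono hD2
      have hDs : ∀ h, ¬ D h ≤ ZZ := by
        intro h hsub
        refine hMM fun x hx => ?_
        have := Cfsg.Geo.scalars_normal.conj_mem _ (hsub ⟨x, hx, rfl⟩) (h : GLn)⁻¹
        simpa [mul_assoc] using this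
      -- elements of a conjugate commute with the derived groups of the other conjugates
      have hcommD : ∀ g l : H, c g ≠ c l → ∀ y ∈ c g, ∀ x ∈ D l, y * x = x * y := by
        intro g l hne y hy x hx
        refine centralizes_commutator (A := c l) (h := y) (fun a ha => ?_) x ?_
        · have := hdist g l hne y hy a ha
          rwa [commutatorElement_def] at this
        · show x ∈ ⁅c l, c l⁆
          rw [← Subgroup.map_commutator]
          exact hx
      have hDn : ∀ h : H, Norms P (D h) := by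
        intro h
        show Norms P ((⁅M, M⁆ : Subgroup GLn).map _)
        rw [Subgroup.map_commutator]
        exact (hcnorm h).commutator (hcnorm h)
      have hDeq : ∀ g l : H, c g = c l → D g = D l := by
        intro g l he
        show Subgroup.map _ _ = Subgroup.map _ _
        rw [Subgroup.map_commutator, Subgroup.map_commutator]
        exact congrArg (fun K : Subgroup GLn => ⁅K, K⁆) he
      have hna : ∀ h : H, ∃ a ∈ D h, ∃ b ∈ D h, a * b ≠ b * a := by
        intro h
        by_contra hcon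
        push Not at hcon
        refine hDs h ?_
        intro x hx
        have : D h = ⁅D h, D h⁆ := by
          show Subgroup.map _ _ = ⁅Subgroup.map _ _, Subgroup.map _ _⁆
          rw [← Subgroup.map_commutator _ _ (MulAut.conj (h : GLn)).toMonoidHom, ← hDD]
        rw [this] at hx
        have hbot : ⁅D h, D h⁆ ≤ ⊥ := Subgroup.commutator_le.mpr fun a ha b hb => by
          rw [Subgroup.mem_bot, commutatorElement_eq_one_iff_mul_comm]
          exact hcon a ha b hb
        rw [Subgroup.mem_bot.mp (hbot hx)]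
        exact one_mem _
      refine hpair ⟨P, D 1, D k, hPabs, (hDc 1).trans (hcP 1), (hDc k).trans (hcP k), hDn 1, hDn k, hna 1, hna k,
        fun x hx y hy => ?_, fun hcen h hh => ?_⟩
      · exact hcommD 1 k (by rw [hc1]; exact hk.symm) x (hDc 1 hx) y hy
      have hall : ∀ g : H, c g = M ∨ c g = c k := by
        intro g
        by_contra hcon
        push Not at hcon
        refine hDs g fun y hy => hcen y (fun x hx => ?_) (fun x hx => ?_)
        · exact hcommD g 1 (by rw [hc1]; exact hcon.1) y (hDc g hy) x hx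
        · exact hcommD g k hcon.2 y (hDc g hy) x hx
      have hmul : ∀ l : H, (D l).map (MulAut.conj h).toMonoidHom = D (⟨h, hh⟩ * l) := by
        intro l
        show Subgroup.map _ (Subgroup.map _ _) = Subgroup.map _ _
        rw [Subgroup.map_map]
        congr 1
        ext u
        simp [mul_assoc]
      have hmulc : ∀ l : H, (c l).map (MulAut.conj h).toMonoidHom = c (⟨h, hh⟩ * l) := by
        intro l
        show Subgroup.map _ (Subgroup.map _ _) = Subgroup.map _ _
        rw [Subgroup.map_map]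
        congr 1
        ext u
        simp [mul_assoc]
      have hinj : c (⟨h, hh⟩ * 1) ≠ c (⟨h, hh⟩ * k) := by
        rw [← hmulc, ← hmulc]
        intro he
        exact hk (((Subgroup.map_injective (MulAut.conj h).injective) he).symm.trans hc1)
      rw [← hc1] at hall
      rw [hmul, hmul]
      rcases hall (⟨h, hh⟩ * 1) with h1 | h1 <;> rcases hall (⟨h, hh⟩ * k) with h2 | h2
      · exact absurd (h1.trans h2.symm) hinj
      · exact Or.inl ⟨hDeq _ _ h1, hDeq _ _ h2⟩
      · exact Or.inr ⟨hDeq _ _ h1, hDeq _ _ h2⟩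
      · exact absurd (h1.trans h2.symm) hinj
  haveI hSn : ((Cfsg.Geo.scalars ι F).subgroupOf P).Normal := inferInstance
  have hq : ∀ x y : P, ⁅(x : GLn), (y : GLn)⁆ ∈ ZZ ↔
      (QuotientGroup.mk x : P ⧸ (Cfsg.Geo.scalars ι F).subgroupOf P) * QuotientGroup.mk y =
        QuotientGroup.mk y * QuotientGroup.mk x := fun x y => by
    rw [← commutatorElement_eq_one_iff_mul_comm,
      ← QuotientGroup.mk'_apply, ← QuotientGroup.mk'_apply, ← map_commutatorElement, QuotientGroup.mk'_apply,
      QuotientGroup.eq_one_iff]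
    exact Iff.rfl
  have hPs : ¬ ⁅P, P⁆ ≤ ZZ := by rwa [hperf]
  refine ⟨hPN.trans hle, hPnorm, hperf, ?_, ?_, ?_, hPabs⟩
  · haveI : Nontrivial (P ⧸ (Cfsg.Geo.scalars ι F).subgroupOf P) := by
      rw [← not_subsingleton_iff_nontrivial]
      intro hs
      exact hPs (Subgroup.commutator_le.mpr fun x hx y hy => (hq ⟨x, hx⟩ ⟨y, hy⟩).mpr (Subsingleton.elim _ _))
    refine ⟨fun K hK => ?_⟩
    let q := QuotientGroup.mk' ((Cfsg.Geo.scalars ι F).subgroupOf P)
    generalize hLdef : (K.comap q).map P.subtype = L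
    by_cases hL : L ≤ ZZ
    · left
      rw [eq_bot_iff]
      intro u hu
      obtain ⟨x, rfl⟩ := QuotientGroup.mk'_surjective ((Cfsg.Geo.scalars ι F).subgroupOf P) u
      rw [Subgroup.mem_bot]
      exact (QuotientGroup.eq_one_iff x).mpr (Subgroup.mem_subgroupOf.mpr
        (hL (hLdef ▸ Subgroup.mem_map_of_mem P.subtype (Subgroup.mem_comap.mpr hu))))
    · right
      have h1 : L ≤ P := by
        rw [← hLdef]
        exact Subgroup.map_subtype_le _
      have h2 : Norms P L := by
        rw [← hLdef]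
        intro p hp' u hu
        obtain ⟨x, hx, rfl⟩ := Subgroup.mem_map.mp hu
        have hn := (hK.comap q).conj_mem x hx ⟨p, hp'⟩
        have := Subgroup.mem_map_of_mem P.subtype hn
        rw [map_mul, map_mul, map_inv] at this
        exact this
      have h3 : ZZ ⊓ P ≤ L := by
        rw [← hLdef]
        intro z hz
        refine Subgroup.mem_map.mpr ⟨⟨z, hz.2⟩, Subgroup.mem_comap.mpr ?_, rfl⟩
        have : q ⟨z, hz.2⟩ = 1 := (QuotientGroup.eq_one_iff _).mpr (Subgroup.mem_subgroupOf.mpr hz.1)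
        rw [this]
        exact one_mem _
      have hLP : L = P := hsimp L h1 h2 h3 hL
      rw [eq_top_iff]
      intro u _
      obtain ⟨x, rfl⟩ := QuotientGroup.mk'_surjective ((Cfsg.Geo.scalars ι F).subgroupOf P) u
      obtain ⟨y, hy, hyx⟩ := Subgroup.mem_map.mp (hLdef.symm ▸ hLP.ge x.2)
      rw [← Subtype.ext hyx]
      exact hy
  · intro hab
    exact hPs (Subgroup.commutator_le.mpr fun x hx y hy =>
      (hq ⟨x, hx⟩ ⟨y, hy⟩).mpr (hab.is_comm.comm _ _))
  · intro h _ hh
    have hc := centralizes_commutator hh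
    rw [hperf] at hc
    obtain ⟨s, hs⟩ := hPabs.2 (h : MM) (by
      rintro _ ⟨a, ha, rfl⟩
      rw [← Units.val_mul, ← Units.val_mul, hc a ha])
    exact mem_scalars_of_matrix hn hs

end Cfsg.Agent.Lib.LinNine
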