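import Cfsg.Agent.Lib.KnownA.PrimeDim.Basic
import Cfsg.Agent.Lib.KnownA.PrimeDim.Clifford

/-!
The special linear group lies in no decomposition, field or tensor-wreath stabiliser.
-/

set_option autoImplicit false
set_option linter.unusedSimpArgs false

namespace Cfsg.Agent.Lib.LinNine

open Matrix Cfsg.Agent.Lib.KnownA.PrimeDim Cfsg.Agent.Lib.MaxSub
open scoped Matrix commutatorElement

variable {n : ℕ} {F : Type*} [Field F]

local notation "SS" => Cfsg.Geo.specialLinear (Fin n) F

theorem not_le_decomposition {t m : ℕ} {D : Fin t → Submodule F (Fin n → F)}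
    (hD : Cfsg.Geo.IsMDecomposition m D) : ¬ SS ≤ Cfsg.Geo.decompositionStabilizer D := by
  intro hle
  have hne : ∀ i, D i ≠ ⊥ := fun i h => by
    have := hD.finrank_eq i
    rw [h, finrank_bot] at this
    have := hD.pos
    omega
  let i : Fin t := ⟨0, by have := hD.two_le; omega⟩
  let j : Fin t := ⟨1, by have := hD.two_le; omega⟩
  have hij : i ≠ j := by simp [i, j, Fin.ext_iff]
  obtain ⟨v, hv, hv0⟩ := (Submodule.ne_bot_iff _).1 (hne i)
  obtain ⟨u, hu, hu0⟩ := (Submodule.ne_bot_iff _).1 (hne j)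
  have hdis : ∀ {a b : Fin t}, a ≠ b → ∀ x ∈ D a, x ∈ D b → x = 0 := fun hab x ha hb =>
    Submodule.disjoint_def.1 (hD.indep.pairwiseDisjoint hab) x ha hb
  obtain ⟨g, hg, hgv⟩ := exists_move hv0 (u := u) (fun h => hu0 (hdis hij u
    ((Submodule.span_singleton_le_iff_mem _ _).2 hv h) hu))
  obtain ⟨σ, hσ⟩ := hle hg
  have hm : v + u ∈ D (σ i) := by
    rw [← hσ i, ← hgv]
    exact ⟨v, hv, by simp [Matrix.toLin'_apply]⟩
  by_cases h1 : σ i = i
  · rw [h1] at hm
    exact hu0 (hdis hij u (by simpa using (D i).sub_mem hm hv) hu)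
  by_cases h2 : σ i = j
  · rw [h2] at hm
    exact hv0 (hdis hij v hv (by simpa using (D j).sub_mem hm hu))
  have h3 := hD.indep (σ i)
  rw [Submodule.disjoint_def] at h3
  have hsum : v + u ∈ ⨆ (k) (_ : k ≠ σ i), D k :=
    add_mem (Submodule.mem_iSup_of_mem i (Submodule.mem_iSup_of_mem (Ne.symm h1) hv))
      (Submodule.mem_iSup_of_mem j (Submodule.mem_iSup_of_mem (Ne.symm h2) hu))
  have h0 := h3 _ hm hsum
  exact hv0 (hdis hij v hv (by rw [eq_neg_of_add_eq_zero_left h0]; exact (D j).neg_mem hu))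

/-- A matrix commuting with the special linear group is scalar. -/
theorem scalar_of_commute (hn : 3 ≤ n) {k : Matrix (Fin n) (Fin n) F}
    (hk : ∀ g ∈ SS, (g : Matrix (Fin n) (Fin n) F) * k = k * (g : Matrix (Fin n) (Fin n) F)) :
    ∃ c : F, k = c • 1 := by
  have heig : ∀ v : Fin n → F, v ≠ 0 → k *ᵥ v ∈ F ∙ v := by
    intro v hv
    by_contra hnot
    obtain ⟨a, ha, hav⟩ := exists_functional (F ∙ v) hnot
    have hmem := hk _ (tv_mem_specialLinear v a (ha v (Submodule.mem_span_singleton_self v)))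
    have h1 := congrArg (fun M => M *ᵥ v) hmem
    simp only [← Matrix.mulVec_mulVec, tv_mulVec, hav, ha v (Submodule.mem_span_singleton_self v), one_smul,
      zero_smul, add_zero] at h1
    exact hv (by simpa using h1)
  obtain ⟨e₀, he₀⟩ : ∃ e : Fin n → F, e ≠ 0 := ⟨Pi.single ⟨0, by omega⟩ 1, by simp⟩
  obtain ⟨c, hc⟩ := Submodule.mem_span_singleton.1 (heig e₀ he₀)
  refine ⟨c, Matrix.toLin'.injective (LinearMap.ext fun v => ?_)⟩
  simp only [Matrix.toLin'_apply, Matrix.smul_mulVec, Matrix.one_mulVec]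
  by_cases hv : v = 0
  · simp [hv]
  obtain ⟨d, hd⟩ := Submodule.mem_span_singleton.1 (heig v hv)
  by_cases hmem : v ∈ F ∙ e₀
  · obtain ⟨a, rfl⟩ := Submodule.mem_span_singleton.1 hmem
    rw [Matrix.mulVec_smul, ← hc, smul_comm]
  · have hs : e₀ + v ≠ 0 := fun h => hmem (by
      rw [eq_neg_of_add_eq_zero_right h]; exact Submodule.neg_mem _ (Submodule.mem_span_singleton_self _))
    obtain ⟨e, he⟩ := Submodule.mem_span_singleton.1 (heig _ hs)
    rw [Matrix.mulVec_add, ← hc, ← hd, smul_add] at he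
    have hli : LinearIndependent F ![e₀, v] :=
      (LinearIndependent.pair_iff' he₀).2 fun a ha => hmem (Submodule.mem_span_singleton.2 ⟨a, ha⟩)
    have h2 := LinearIndependent.pair_iff.1 hli (e - c) (e - d) (by linear_combination (norm := module) he)
    rw [← hd, sub_eq_zero.1 h2.1 |>.symm, sub_eq_zero.1 h2.2]

theorem not_le_subalgebraNormalizer [Finite F] (hn : 3 ≤ n) {r : ℕ} (hr : 2 ≤ r)
    {K : Subalgebra F (Matrix (Fin n) (Fin n) F)} (hK : Cfsg.Geo.IsFieldSubalgebra r K) :
    ¬ SS ≤ Cfsg.Geo.subalgebraNormalizer K := by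
  intro hle
  haveI : Nonempty (Fin n) := ⟨⟨0, by omega⟩⟩
  have hcen : ∀ k ∈ K, ∀ g ∈ SS, (g : Matrix (Fin n) (Fin n) F) * k = k * (g : Matrix (Fin n) (Fin n) F) := by
    intro k hk
    let C : Subgroup (GL (Fin n) F) :=
      { carrier := {g | Commute (g : Matrix (Fin n) (Fin n) F) k}
        mul_mem' := fun {a b} ha hb => by
          show Commute ((a * b : GL (Fin n) F) : Matrix (Fin n) (Fin n) F) k
          rw [Units.val_mul]
          exact Commute.mul_left ha hb
        one_mem' := by show Commute ((1 : GL (Fin n) F) : Matrix (Fin n) (Fin n) F) k; simp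
        inv_mem' := fun {a} ha => Commute.units_inv_left ha }
    suffices SS ≤ C from fun g hg => this hg
    conv_lhs => rw [← SS_perfect hn]
    exact Subgroup.commutator_le.mpr fun a ha b hb =>
      commutator_centralizes (by simp; omega) hK (hle ha) (hle hb) hk
  have hbot : Subalgebra.toSubmodule K ≤ Submodule.span F {(1 : Matrix (Fin n) (Fin n) F)} := by
    intro k hk
    obtain ⟨c, rfl⟩ := scalar_of_commute hn (hcen k hk)
    exact Submodule.smul_mem _ _ (Submodule.mem_span_singleton_self _)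
  have := Submodule.finrank_mono hbot
  rw [finrank_span_singleton one_ne_zero] at this
  have h1 : Module.finrank F (Subalgebra.toSubmodule K) = r := hK.finrank_eq
  omega

/-- Rank one tensors. -/
def Pure {m : ℕ} (x : (Fin 2 → Fin m) → F) : Prop :=
  ∃ u w : Fin m → F, ∀ a, x a = u (a 0) * w (a 1)

theorem pure_mem {m : ℕ} [Finite F] {g : GL (Fin 2 → Fin m) F} (hg : g ∈ Cfsg.Geo.tensorWreathStandard m 2 F)
    {x : (Fin 2 → Fin m) → F} (hx : Pure x) :
    Pure ((g : Matrix (Fin 2 → Fin m) (Fin 2 → Fin m) F) *ᵥ x) := by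
  revert x
  unfold Cfsg.Geo.tensorWreathStandard at hg
  induction hg using Subgroup.closure_induction with
  | mem g hg =>
    rintro x ⟨u, w, hx⟩
    rcases hg with ⟨gs, hgs⟩ | ⟨σ, hσ⟩
    · refine ⟨(gs 0 : Matrix (Fin m) (Fin m) F) *ᵥ u, (gs 1 : Matrix (Fin m) (Fin m) F) *ᵥ w, fun a => ?_⟩
      simp only [Matrix.mulVec, dotProduct, hgs, hx, Fin.prod_univ_two]
      rw [Finset.sum_mul_sum, ← Fintype.sum_prod_type',
        ← (finTwoArrowEquiv (Fin m)).sum_comp (fun p : Fin m × Fin m =>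
          (gs 0 : Matrix (Fin m) (Fin m) F) (a 0) p.1 * u p.1 * ((gs 1 : Matrix (Fin m) (Fin m) F) (a 1) p.2 * w p.2))]
      refine Finset.sum_congr rfl fun b _ => ?_
      simp [finTwoArrowEquiv, piFinTwoEquiv]
      ring
    · have he : ∀ a, ((g : Matrix (Fin 2 → Fin m) (Fin 2 → Fin m) F) *ᵥ x) a = x (a ∘ σ) := fun a => by
        simp [Matrix.mulVec, dotProduct, hσ]
      by_cases h0 : σ 0 = 0
      · have h1 : σ 1 = 1 := by
          have h3 : σ 1 ≠ σ 0 := fun h => by simpa using σ.injective h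
          omega
        exact ⟨u, w, fun a => by rw [he, hx]; simp [h0, h1]⟩
      · have h0' : σ 0 = 1 := by omega
        have h1 : σ 1 = 0 := by
          have h3 : σ 1 ≠ σ 0 := fun h => by simpa using σ.injective h
          omega
        exact ⟨w, u, fun a => by rw [he, hx]; simp [h0', h1]; ring⟩
  | one => intro x hx; simpa using hx
  | mul a b _ _ ha hb => intro x hx; rw [Units.val_mul, ← Matrix.mulVec_mulVec]; exact ha (hb hx)
  | inv a _ ha =>
    intro x hx
    have hpow : ∀ k : ℕ, ∀ x, Pure x → Pure (((a ^ k : GL (Fin 2 → Fin m) F) : Matrix (Fin 2 → Fin m) (Fin 2 → Fin m) F) *ᵥ x) := by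
      intro k
      induction k with
      | zero => intro x hx; simpa using hx
      | succ k ih => intro x hx; rw [pow_succ, Units.val_mul, ← Matrix.mulVec_mulVec]; exact ih _ (ha hx)
    haveI : Finite (GL (Fin 2 → Fin m) F) := inferInstance
    have hfo : IsOfFinOrder a := isOfFinOrder_of_finite a
    obtain ⟨k, hk⟩ : ∃ k : ℕ, a ^ k = a⁻¹ := ⟨orderOf a - 1, by
      refine eq_inv_of_mul_eq_one_left ?_
      rw [← pow_succ, Nat.sub_add_cancel hfo.orderOf_pos, pow_orderOf_eq_one]⟩
    rw [← hk]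
    exact hpow k x hx

theorem not_le_tensorWreath [Finite F] (hn : 3 ≤ n) {m : ℕ} (hm : 2 ≤ m) (e : Fin n ≃ (Fin 2 → Fin m))
    (P : GL (Fin n) F) : ¬ SS ≤ Cfsg.Geo.tensorWreathSubgroup m 2 e P := by
  intro hle
  let i₀ : Fin m := ⟨0, by omega⟩
  let i₁ : Fin m := ⟨1, by omega⟩
  have h01 : i₀ ≠ i₁ := by simp [i₀, i₁, Fin.ext_iff]
  let v : Fin n → F := Pi.single (e.symm fun _ => i₀) 1
  let u : Fin n → F := Pi.single (e.symm fun _ => i₁) 1
  have hne : e.symm (fun _ => i₀) ≠ e.symm fun _ => i₁ := fun h => h01 (congrFun (e.symm.injective h) 0)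
  obtain ⟨g, hg, hgv⟩ := exists_move (w := v) (by simp [v]) (u := u) (by
    intro h
    obtain ⟨c, hc⟩ := Submodule.mem_span_singleton.1 h
    have := congrFun hc (e.symm fun _ => i₁)
    simp [v, u, hne.symm] at this)
  have hN : (SS).Normal := MonoidHom.normal_ker _
  obtain ⟨_, ⟨s, hs, rfl⟩, hs'⟩ := hle (hN.conj_mem g hg P)
  have hgs : Cfsg.Geo.glReindex e.symm s = g := by
    simp only [MulEquiv.coe_toMonoidHom, MulAut.conj_apply] at hs'
    exact mul_left_cancel (mul_right_cancel hs')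
  have hp : Pure (fun a => v (e.symm a)) := by
    refine ⟨Pi.single i₀ 1, Pi.single i₀ 1, fun a => ?_⟩
    simp only [v, Pi.single_apply, e.symm.injective.eq_iff]
    by_cases h : a = fun _ => i₀
    · subst h; simp
    · rw [if_neg h]
      have : a 0 ≠ i₀ ∨ a 1 ≠ i₀ := by
        by_contra hc
        push Not at hc
        exact h (funext fun k => by fin_cases k <;> simp [hc.1, hc.2])
      rcases this with h' | h' <;> simp [h']
  obtain ⟨a, b, hab⟩ := pure_mem hs hp
  have hval : ∀ p, ((s : Matrix (Fin 2 → Fin m) (Fin 2 → Fin m) F) *ᵥ fun a => v (e.symm a)) p =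
      (v + u) (e.symm p) := by
    intro p
    rw [← hgv, ← hgs]
    show _ = (Matrix.reindex e.symm e.symm (s : Matrix _ _ F) *ᵥ v) (e.symm p)
    rw [Matrix.reindex_apply, Equiv.symm_symm, Matrix.submatrix_mulVec_equiv]
    simp [Function.comp_def]
  simp only [hval] at hab
  have e00 := hab fun _ => i₀
  have e11 := hab fun _ => i₁
  have e01 := hab ![i₀, i₁]
  have hA : e.symm ![i₀, i₁] ≠ e.symm fun _ => i₀ := fun h => h01 (by
    simpa using (congrFun (e.symm.injective h) 1).symm)
  have hB : e.symm ![i₀, i₁] ≠ e.symm fun _ => i₁ := fun h => h01 (by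
    simpa using congrFun (e.symm.injective h) 0)
  simp [v, u, hne, hne.symm, hA, hB] at e00 e11 e01
  rcases e01 with h | h
  · rw [h] at e00; simp at e00
  · rw [h] at e11; simp at e11

end Cfsg.Agent.Lib.LinNine
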