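import Cfsg.Agent.Lib.SLFour.SmallLines

/-!
Dimension nine: a field extension of degree nine refines to one of degree three, and stabilisers of
decompositions into lines over fields with fewer than five elements are contained in other structures.
-/

set_option autoImplicit false

namespace Cfsg.Agent.Lib.LinNine

open Cfsg.Geo Cfsg.Agent.Lib.SLFour
open scoped Matrix

section Small

variable {n : ℕ} {F : Type*} [Field F] [Fintype F] {D : Fin n → Submodule F (Fin n → F)}

theorem le_line_of_card_two' (hq : Fintype.card F = 2) (hD : IsMDecomposition 1 D) :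
    ∃ W : Submodule F (Fin n → F), W ≠ ⊥ ∧ W ≠ ⊤ ∧
      decompositionStabilizer D ≤ subspaceStabilizer W := by
  obtain ⟨b, hb⟩ := exists_frame hD
  set s : Fin n → F := ∑ i, b i with hs
  have hn2 : 2 ≤ n := hD.two_le
  have hrs : ∀ i, b.repr s i = 1 := fun i => by
    rw [hs, map_sum, Finsupp.finsetSum_apply, Finset.sum_eq_single i]
    · simp
    · intro j _ hj; simp [hj]
    · simp
  have hs0 : s ≠ 0 := fun e => by simpa [e] using hrs ⟨0, by omega⟩
  refine ⟨Submodule.span F {s}, by simpa using hs0, fun e => ?_, fun g hg => ?_⟩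
  · have h1 := congrArg (fun W : Submodule F (Fin n → F) => Module.finrank F W) e
    simp only [finrank_span_singleton hs0, finrank_top, Module.finrank_fin_fun] at h1
    omega
  · obtain ⟨σ, d, hd0, -, hrep⟩ := frame_mono hb hg
    have hd1 : ∀ i, d i = 1 := fun i => by
      have := FiniteField.pow_card_sub_one_eq_one (d i) (hd0 i)
      simpa [hq] using this
    have hfix : (g : Matrix (Fin n) (Fin n) F) *ᵥ s = s := by
      apply b.repr.injective
      ext j
      obtain ⟨i, rfl⟩ := σ.surjective j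
      rw [hrep, hd1, hrs, hrs, one_mul]
    intro v
    show v ∈ Submodule.span F {s} ↔ (g : Matrix (Fin n) (Fin n) F) *ᵥ v ∈ Submodule.span F {s}
    simp only [Submodule.mem_span_singleton]
    constructor
    · rintro ⟨c, rfl⟩
      exact ⟨c, by rw [Matrix.mulVec_smul, hfix]⟩
    · rintro ⟨c, hc⟩
      refine ⟨c, ?_⟩
      have := congrArg (fun w => ((g⁻¹ : GL (Fin n) F) : Matrix (Fin n) (Fin n) F) *ᵥ w)
        (show (g : Matrix (Fin n) (Fin n) F) *ᵥ (c • s) = (g : Matrix (Fin n) (Fin n) F) *ᵥ v by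
          rw [Matrix.mulVec_smul, hfix, hc])
      simpa [Matrix.mulVec_mulVec, ← Units.val_mul] using this

theorem le_quad_of_card_three' (hq : Fintype.card F = 3) (hD : IsMDecomposition 1 D) :
    ∃ Q : (Fin n → F) → F, IsNondegenerateQuadraticForm Q ∧
      decompositionStabilizer D ≤ quadSimilarityGroup Q := by
  obtain ⟨b, hb⟩ := exists_frame hD
  set Q : (Fin n → F) → F := fun v => ∑ i, (b.repr v i) ^ 2 with hQ
  have hpol : ∀ u v, QuadraticMap.polar Q u v = 2 * ∑ i, b.repr u i * b.repr v i := by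
    intro u v
    simp only [QuadraticMap.polar, hQ, map_add, Finsupp.add_apply, Finset.mul_sum,
      ← Finset.sum_sub_distrib]
    exact Finset.sum_congr rfl fun i _ => by ring
  have h2 : (2 : F) ≠ 0 := by
    intro h
    haveI : CharP F 2 := CharTwo.of_one_ne_zero_of_two_eq_zero one_ne_zero h
    obtain ⟨k, -, hk⟩ := FiniteField.card F 2
    rw [hq] at hk
    exact absurd (hk ▸ dvd_pow_self 2 k.ne_zero : 2 ∣ 3) (by norm_num)
  refine ⟨Q, ⟨?_, ?_, ?_⟩, fun g hg => ?_⟩
  · intro c v
    simp only [hQ, map_smul, Finsupp.smul_apply, smul_eq_mul, Finset.mul_sum]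
    exact Finset.sum_congr rfl fun i _ => by ring
  · constructor <;> intros <;>
      simp only [hpol, map_add, map_smul, Finsupp.add_apply, Finsupp.smul_apply, smul_eq_mul,
        add_mul, mul_add, Finset.sum_add_distrib, Finset.mul_sum] <;>
      first | rfl | exact Finset.sum_congr rfl fun i _ => by ring
  · intro v hv
    obtain ⟨i, hi⟩ : ∃ i, b.repr v i ≠ 0 := by
      by_contra hcon
      push Not at hcon
      exact hv (b.repr.injective (by ext i; simp [hcon i]))
    constructor <;> refine ⟨b i, ?_⟩ <;> rw [hpol, Finset.sum_eq_single i] <;>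
      first
        | (simpa [h2] using hi)
        | (intro j _ hj; simp [hj])
        | simp
  · obtain ⟨σ, d, hd0, -, hrep⟩ := frame_mono hb hg
    refine ⟨1, fun v => ?_⟩
    rw [Units.val_one, one_mul, hQ]
    simp only
    rw [← Equiv.sum_comp σ]
    refine Finset.sum_congr rfl fun i _ => ?_
    have hd2 : d i ^ 2 = 1 := by simpa [hq] using FiniteField.pow_card_sub_one_eq_one (d i) (hd0 i)
    rw [hrep, mul_pow, hd2, one_mul]

theorem le_unitary_of_card_four' (hq : Fintype.card F = 4) (hD : IsMDecomposition 1 D) :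
    ∃ (σ : F ≃+* F) (f : (Fin n → F) → (Fin n → F) → F), IsUnitaryForm σ f ∧
      decompositionStabilizer D ≤ similarityGroup f := by
  obtain ⟨b, hb⟩ := exists_frame hD
  haveI : Fact (Nat.Prime 2) := ⟨Nat.prime_two⟩
  obtain ⟨p, hp⟩ := CharP.exists F
  obtain ⟨k, hpp, hk⟩ := FiniteField.card F p
  obtain rfl : p = 2 := by
    have h1 : p ∣ 2 ^ 2 := by
      rw [show (2 : ℕ) ^ 2 = Fintype.card F by rw [hq]; norm_num, hk]
      exact dvd_pow_self p k.ne_zero
    exact (Nat.prime_dvd_prime_iff_eq hpp Nat.prime_two).1 (hpp.dvd_of_dvd_pow h1)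
  haveI : ExpChar F 2 := ExpChar.prime Nat.prime_two
  set σ : F ≃+* F := frobeniusEquiv F 2 with hσ
  have hap : ∀ a : F, σ a = a ^ 2 := fun a => frobeniusEquiv_def F 2 a
  have hinv : ∀ a : F, σ (σ a) = a := fun a => by
    rw [hap, hap, ← pow_mul]
    simpa [hq] using FiniteField.pow_card a
  have hne : σ ≠ RingEquiv.refl F := by
    intro h
    have h1 : ∀ a : F, a = 0 ∨ a = 1 := fun a => by
      have := congrArg (fun e : F ≃+* F => e a) h
      simp only [hap, RingEquiv.refl_apply] at this
      exact (IsIdempotentElem.iff_eq_zero_or_one.1 (show IsIdempotentElem a by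
        rw [IsIdempotentElem, ← pow_two]; exact this))
    classical
    have : Fintype.card F ≤ ({0, 1} : Finset F).card := by
      rw [← Finset.card_univ]
      exact Finset.card_le_card fun a _ => by rcases h1 a with rfl | rfl <;> simp
    have h2 : ({0, 1} : Finset F).card ≤ 2 := Finset.card_le_two
    omega
  set f : (Fin n → F) → (Fin n → F) → F := fun u v => ∑ i, b.repr u i * σ (b.repr v i) with hf
  refine ⟨σ, f, ⟨hne, hinv, ?_, ?_, ?_, ?_⟩, fun g hg => ?_⟩
  · intro x y v
    simp only [hf, map_add, Finsupp.add_apply, add_mul, Finset.sum_add_distrib]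
  · intro c x v
    simp only [hf, map_smul, Finsupp.smul_apply, smul_eq_mul, Finset.mul_sum, mul_assoc]
  · intro v w
    simp only [hf, map_sum, map_mul, hinv]
    exact Finset.sum_congr rfl fun i _ => mul_comm _ _
  · intro v hv
    obtain ⟨i, hi⟩ : ∃ i, b.repr v i ≠ 0 := by
      by_contra hcon
      push Not at hcon
      exact hv (b.repr.injective (by ext i; simp [hcon i]))
    constructor <;> refine ⟨b i, ?_⟩ <;> simp only [hf] <;> rw [Finset.sum_eq_single i] <;>
      first
        | (simpa using hi)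
        | (intro j _ hj; simp [hj])
        | simp
  · obtain ⟨π, d, hd0, -, hrep⟩ := frame_mono hb hg
    refine ⟨1, fun u v => ?_⟩
    rw [Units.val_one, one_mul]
    simp only [hf]
    rw [← Equiv.sum_comp π]
    refine Finset.sum_congr rfl fun i _ => ?_
    have hd3 : d i * σ (d i) = 1 := by
      rw [hap, ← pow_succ']
      simpa [hq] using FiniteField.pow_card_sub_one_eq_one (d i) (hd0 i)
    rw [hrep, hrep, map_mul]
    linear_combination (b.repr u i * σ (b.repr v i)) * hd3

end Small

/-- The three small fields together. -/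
theorem lines_small {F : Type*} [Field F] [Fintype F] {D : Fin 9 → Submodule F (Fin 9 → F)}
    (hD : IsMDecomposition 1 D) (hq : Fintype.card F < 5) :
    (∃ W : Submodule F (Fin 9 → F), W ≠ ⊥ ∧ W ≠ ⊤ ∧
        decompositionStabilizer D ≤ subspaceStabilizer W) ∨
      (Odd (Fintype.card F) ∧ ∃ Q : (Fin 9 → F) → F, IsNondegenerateQuadraticForm Q ∧
        decompositionStabilizer D ≤ quadSimilarityGroup Q) ∨
      ∃ (σ : F ≃+* F) (f : (Fin 9 → F) → (Fin 9 → F) → F), IsUnitaryForm σ f ∧
        decompositionStabilizer D ≤ similarityGroup f := by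
  have h1 : 1 < Fintype.card F := Fintype.one_lt_card
  rcases (show Fintype.card F = 2 ∨ Fintype.card F = 3 ∨ Fintype.card F = 4 by omega) with h | h | h
  · exact Or.inl (le_line_of_card_two' h hD)
  · exact Or.inr (Or.inl ⟨h ▸ by decide, le_quad_of_card_three' h hD⟩)
  · exact Or.inr (Or.inr (le_unitary_of_card_four' h hD))

/-- A field subalgebra of degree nine contains one of degree three with the normaliser inside. -/
theorem subfield_three {F : Type*} [Field F] [Fintype F]
    (K : Subalgebra F (Matrix (Fin 9) (Fin 9) F)) (hK : IsFieldSubalgebra 9 K) :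
    ∃ L : Subalgebra F (Matrix (Fin 9) (Fin 9) F), IsFieldSubalgebra 3 L ∧
      subalgebraNormalizer K ≤ subalgebraNormalizer L := by
  classical
  obtain ⟨p, hp⟩ := CharP.exists F
  obtain ⟨a, hpp, ha⟩ := FiniteField.card F p
  haveI : Fact p.Prime := ⟨hpp⟩
  haveI : CharP (Matrix (Fin 9) (Fin 9) F) p :=
    charP_of_injective_algebraMap (algebraMap F (Matrix (Fin 9) (Fin 9) F)).injective p
  set q := Fintype.card F with hq
  set Q := q ^ 3 with hQ
  have hq1 : 1 < q := Fintype.one_lt_card
  have hQ1 : 1 < Q := Nat.one_lt_pow (by norm_num) hq1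
  have hadd : ∀ x y : Matrix (Fin 9) (Fin 9) F, Commute x y → (x + y) ^ Q = x ^ Q + y ^ Q := by
    intro x y h
    rw [hQ, ha, ← pow_mul]
    exact add_pow_char_pow_of_commute (p := p) (h := h) ..
  have hscal : ∀ c : F, c ^ Q = c := fun c => FiniteField.pow_card_pow 3 c
  let L : Subalgebra F (Matrix (Fin 9) (Fin 9) F) :=
    { carrier := {x | x ∈ K ∧ x ^ Q = x}
      mul_mem' := fun {x y} hx hy =>
        ⟨K.mul_mem hx.1 hy.1, by rw [Commute.mul_pow (hK.comm x hx.1 y hy.1), hx.2, hy.2]⟩
      one_mem' := ⟨K.one_mem, one_pow _⟩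
      add_mem' := fun {x y} hx hy =>
        ⟨K.add_mem hx.1 hy.1, by rw [hadd x y (hK.comm x hx.1 y hy.1), hx.2, hy.2]⟩
      zero_mem' := ⟨K.zero_mem, zero_pow (by omega)⟩
      algebraMap_mem' := fun c => ⟨K.algebraMap_mem c, by rw [← map_pow, hscal]⟩ }
  have hmem : ∀ x, x ∈ L ↔ x ∈ K ∧ x ^ Q = x := fun _ => Iff.rfl
  letI : CommRing K :=
    { (inferInstance : Ring K) with mul_comm := fun x y => Subtype.ext (hK.comm _ x.2 _ y.2) }
  haveI : Fintype K := Fintype.ofFinite K
  have hfield : IsField K :=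
    { exists_pair_ne := ⟨0, 1, fun e => zero_ne_one (congrArg Subtype.val e)⟩
      mul_comm := mul_comm
      mul_inv_cancel := fun {x} hx => by
        obtain ⟨y, hy, hxy⟩ := hK.inv x x.2 fun e => hx (Subtype.ext e)
        exact ⟨⟨y, hy⟩, Subtype.ext hxy⟩ }
  letI : Field K := hfield.toField
  have hKc : Nat.card K = q ^ 9 := by
    rw [Module.natCard_eq_pow_finrank (K := F), hK.finrank_eq, Nat.card_eq_fintype_card]
  have hker : Nat.card (powMonoidHom (Q - 1) : Kˣ →* Kˣ).ker = Q - 1 := by
    rw [IsCyclic.card_powMonoidHom_ker, Nat.card_units, hKc, hQ]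
    refine Nat.gcd_eq_right ?_
    have h := Nat.sub_dvd_pow_sub_pow (q ^ 3) 1 3
    rwa [one_pow, ← pow_mul] at h
  have hLc : Nat.card L = Q := by
    let e : {x : L // x ≠ 0} ≃ (powMonoidHom (Q - 1) : Kˣ →* Kˣ).ker :=
      { toFun := fun x => ⟨Units.mk0 (⟨x.1.1, x.1.2.1⟩ : K)
            (fun e => x.2 (Subtype.ext (congrArg Subtype.val e :))), by
          rw [MonoidHom.mem_ker, powMonoidHom_apply]
          apply Units.ext
          rw [Units.val_pow_eq_pow_val, Units.val_mk0, Units.val_one]
          have h0 : (⟨x.1.1, x.1.2.1⟩ : K) ≠ 0 :=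
            fun e => x.2 (Subtype.ext (congrArg Subtype.val e :))
          apply mul_left_cancel₀ h0
          rw [mul_one, ← pow_succ', Nat.sub_add_cancel hQ1.le]
          exact Subtype.ext x.1.2.2⟩
        invFun := fun u => ⟨⟨((u.1 : K) : Matrix (Fin 9) (Fin 9) F), ((u.1 : Kˣ) : K).2, by
            have h := u.2
            rw [MonoidHom.mem_ker, powMonoidHom_apply] at h
            have h' : (u.1 : K) ^ Q = (u.1 : K) := by
              calc (u.1 : K) ^ Q = (u.1 : K) ^ (Q - 1 + 1) :=
                    congrArg (fun m => (u.1 : K) ^ m) (Nat.sub_add_cancel hQ1.le).symm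
                _ = (u.1 : K) := by rw [pow_succ, ← Units.val_pow_eq_pow_val, h, Units.val_one, one_mul]
            exact congrArg Subtype.val h'⟩,
          fun e => u.1.ne_zero (Subtype.ext (congrArg Subtype.val e :))⟩
        left_inv := fun x => rfl
        right_inv := fun u => Subtype.ext (Units.ext rfl) }
    have h1 : Nat.card {x : L // x ≠ 0} = Q - 1 := (Nat.card_congr e).trans hker
    have h2 : Nat.card L = Nat.card {x : L // x ≠ 0} + 1 := by
      rw [Nat.card_congr (Equiv.optionSubtypeNe (0 : L)).symm, Finite.card_option]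
    omega
  refine ⟨L, ⟨fun x hx y hy => hK.comm x hx.1 y hy.1, fun x hx hx0 => ?_, ?_⟩, fun g hg => ?_⟩
  · obtain ⟨y, hy, hxy⟩ := hK.inv x hx.1 hx0
    refine ⟨y, ⟨hy, ?_⟩, hxy⟩
    have hc := hK.comm x hx.1 y hy
    calc y ^ Q = (x * y) * y ^ Q := by rw [hxy, one_mul]
      _ = y * (x * y ^ Q) := by rw [hc, mul_assoc]
      _ = y * (x ^ Q * y ^ Q) := by rw [hx.2]
      _ = y := by rw [← Commute.mul_pow hc, hxy, one_pow, mul_one]
  · have h := Module.natCard_eq_pow_finrank (K := F) (V := L)
    rw [hLc, hQ, Nat.card_eq_fintype_card (α := F)] at h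
    exact (Nat.pow_right_injective hq1 h).symm
  · intro k
    set G := (g : Matrix (Fin 9) (Fin 9) F)
    set G' := ((g⁻¹ : GL (Fin 9) F) : Matrix (Fin 9) (Fin 9) F)
    have hpow : (G * k * G') ^ Q = G * k ^ Q * G' := Units.conj_pow g k Q
    rw [hmem, hmem, hg k, hpow]
    refine and_congr_right fun _ => ⟨fun h => by rw [h], fun h => ?_⟩
    exact g.isUnit.mul_left_cancel (g⁻¹.isUnit.mul_right_cancel h)

end Cfsg.Agent.Lib.LinNine
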