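import Cfsg.Agent.Lib.TwoPrimeDim.Homogeneous

/-!
Two commuting non-abelian subgroups of `GL₉` normalised by an irreducible group determine a tensor
decomposition `3 ⊗ 3`, stabilised by everything permuting the two subgroups.
-/

set_option autoImplicit false
set_option linter.unusedSectionVars false
set_option linter.unusedSimpArgs false
set_option linter.style.haveILetI false
set_option linter.unusedVariables false
set_option synthInstance.maxHeartbeats 200000
set_option maxHeartbeats 2000000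

namespace Cfsg.Agent.Lib.LinNine.TwoFactors

open Matrix Module Cfsg.Agent.Lib.TwoPrimeDim
open scoped MatrixGroups Matrix Kronecker

section Generic

variable {ι : Type} [Fintype ι] [DecidableEq ι] {F : Type*} [Field F] [Finite F]

local notation "GG" => Matrix.GeneralLinearGroup ι F
local notation "MM" => Matrix ι ι F
local notation "VV" => (ι → F)

/-- The matrices commuting with every member of `M`. -/
def commSet (M : Subgroup GG) : Set MM := {X | ∀ g ∈ M, (g : MM) * X = X * (g : MM)}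

structure Hyp (P M M2 : Subgroup GG) : Prop where
  card : Fintype.card ι = 9
  irr : Cfsg.Geo.ActsIrreducibly (Cfsg.Geo.matrixSet P)
  norm : ∀ p ∈ P, ∀ x ∈ M, p * x * p⁻¹ ∈ M
  nonab : ∃ a ∈ M, ∃ b ∈ M, a * b ≠ b * a
  nonab2 : ∃ a ∈ M2, ∃ b ∈ M2, a * b ≠ b * a
  comm : ∀ x ∈ M, ∀ y ∈ M2, x * y = y * x

variable {P M M2 : Subgroup (Matrix.GeneralLinearGroup ι F)}

theorem Hyp.nonempty (h : Hyp P M M2) : Nonempty ι :=
  Fintype.card_pos_iff.mp (by rw [h.card]; norm_num)

/-- The commutators of `M` act non-trivially on every non-zero invariant subspace. -/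
theorem Hyp.not_abelian_on (h : Hyp P M M2) {U : Submodule F VV} (hU0 : U ≠ ⊥) (hUi : Inv M U)
    (hab : ∀ a ∈ M, ∀ b ∈ M, ∀ u ∈ U,
      (a : MM) *ᵥ ((b : MM) *ᵥ u) = (b : MM) *ᵥ ((a : MM) *ᵥ u)) : False := by
  let W : Submodule F VV :=
    { carrier := {v | ∀ a ∈ M, ∀ b ∈ M, (a : MM) *ᵥ ((b : MM) *ᵥ v) = (b : MM) *ᵥ ((a : MM) *ᵥ v)}
      add_mem' := fun {x y} hx hy a ha b hb => by
        simp only [Matrix.mulVec_add, hx a ha b hb, hy a ha b hb]
      zero_mem' := fun a _ b _ => by simp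
      smul_mem' := fun c x hx a ha b hb => by simp only [Matrix.mulVec_smul, hx a ha b hb] }
  have hW : Inv P W := by
    intro p hp v hv a ha b hb
    have ha' := h.norm p⁻¹ (P.inv_mem hp) a ha
    have hb' := h.norm p⁻¹ (P.inv_mem hp) b hb
    rw [inv_inv] at ha' hb'
    have := congrArg (fun u => (p : MM) *ᵥ u) (hv _ ha' _ hb')
    simpa [Matrix.mulVec_mulVec, mul_assoc] using this
  rcases (actsIrreducibly_iff P).mp h.irr W hW with hb | ht
  · exact hU0 (le_bot_iff.mp (hb ▸ fun u hu a ha b hb' => hab a ha b hb' u hu))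
  · obtain ⟨a, ha, b, hb, hne⟩ := h.nonab
    refine hne (Units.ext (eq_of_mulVec fun v => ?_))
    have hv : v ∈ W := ht ▸ Submodule.mem_top
    simpa [Matrix.mulVec_mulVec] using hv a ha b hb

/-- Matrices commuting with `M` commute with each other on an invariant subspace without proper ones. -/
theorem commSet_comm_on {U : Submodule F VV} (hU0 : U ≠ ⊥)
    (hmin : ∀ W : Submodule F VV, Inv M W → W ≤ U → W = ⊥ ∨ W = U) (hUi : Inv M U)
    {X Y : MM} (hX : X ∈ commSet M) (hY : Y ∈ commSet M) (hXU : ∀ u ∈ U, X *ᵥ u ∈ U)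
    (hYU : ∀ u ∈ U, Y *ᵥ u ∈ U) : ∀ u ∈ U, X *ᵥ (Y *ᵥ u) = Y *ᵥ (X *ᵥ u) := by
  classical
  let S : Subalgebra F (Module.End F U) :=
    { carrier := {f | ∀ g (hg : g ∈ M) (u : U), (g : MM) *ᵥ (f u : VV) = (f ⟨(g : MM) *ᵥ u, hUi g hg u u.2⟩ : VV)}
      mul_mem' := fun {f f'} hf hf' g hg u => by
        show (g : MM) *ᵥ (f (f' u) : VV) = (f (f' _) : VV)
        rw [hf g hg (f' u)]
        congr 2
        exact Subtype.ext (hf' g hg u)
      add_mem' := fun {f f'} hf hf' g hg u => by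
        simp only [LinearMap.add_apply, Submodule.coe_add, Matrix.mulVec_add, hf g hg u, hf' g hg u]
      algebraMap_mem' := fun c g hg u => by simp [Matrix.mulVec_smul] }
  have hdom : ∀ f ∈ S, f ≠ 0 → Function.Injective f := by
    intro f hf hf0
    rw [← LinearMap.ker_eq_bot]
    by_contra hk
    have hinv : Inv M ((LinearMap.ker f).map U.subtype) := by
      rintro g hg _ ⟨u, hu, rfl⟩
      refine ⟨⟨(g : MM) *ᵥ u, hUi g hg u u.2⟩, ?_, rfl⟩
      rw [SetLike.mem_coe, LinearMap.mem_ker] at hu ⊢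
      refine Subtype.ext ?_
      rw [← hf g hg u, hu]
      simp
    rcases hmin _ hinv (by rintro _ ⟨u, -, rfl⟩; exact u.2) with h' | h'
    · exact hk ((Submodule.map_injective_of_injective U.injective_subtype)
        (h'.trans (Submodule.map_bot _).symm))
    · refine hf0 (LinearMap.ext fun u => ?_)
      have : (u : VV) ∈ (LinearMap.ker f).map U.subtype := h'.ge u.2
      obtain ⟨u', hu', he⟩ := this
      rw [← Subtype.ext (show (u' : VV) = u from he)]
      exact hu'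
  haveI : Finite (Module.End F U) := Finite.of_injective (fun f : Module.End F U => (f : U → U)) DFunLike.coe_injective
  haveI : Finite S := Finite.of_injective (fun f : S => (f : Module.End F U)) Subtype.val_injective
  haveI : Nontrivial U := Submodule.nontrivial_iff_ne_bot.mpr hU0
  haveI : Nontrivial S := ⟨⟨0, 1, fun he => by
    obtain ⟨u, hu⟩ := exists_ne (0 : U)
    exact hu (LinearMap.congr_fun (congrArg Subtype.val he) u).symm⟩⟩
  haveI : NoZeroDivisors S := ⟨fun {a c} hac => by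
    by_cases ha : a = 0
    · exact Or.inl ha
    · refine Or.inr (Subtype.ext (LinearMap.ext fun u => hdom a a.2 (fun h => ha (Subtype.ext h)) ?_))
      have := LinearMap.congr_fun (congrArg Subtype.val hac) u
      simpa using this⟩
  letI : Ring S := Subalgebra.toRing (R := F) (A := Module.End F U) S
  haveI : IsDomain S := NoZeroDivisors.to_isDomain S
  let res : (Z : MM) → (∀ u ∈ U, Z *ᵥ u ∈ U) → Module.End F U := fun Z hZ =>
    (Matrix.toLin' Z).restrict fun u hu => by rw [Matrix.toLin'_apply]; exact hZ u hu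
  have hres : ∀ (Z : MM) (hZ : ∀ u ∈ U, Z *ᵥ u ∈ U), Z ∈ commSet M → res Z hZ ∈ S := by
    intro Z hZ hZc g hg u
    simp [res, Matrix.mulVec_mulVec, hZc g hg]
  intro u hu
  have := (Finite.isDomain_to_isField S).mul_comm ⟨_, hres X hXU hX⟩ ⟨_, hres Y hYU hY⟩
  have := congrArg (fun f : Module.End F U => ((f ⟨u, hu⟩ : U) : VV)) (congrArg Subtype.val this)
  simpa [res] using this

theorem Hyp.mem2 (h : Hyp P M M2) {y : GG} (hy : y ∈ M2) : (y : MM) ∈ commSet M := fun x hx => by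
  rw [← Units.val_mul, ← Units.val_mul, h.comm x hx y hy]

theorem Hyp.reducible (h : Hyp P M M2) : ∃ U, Inv M U ∧ U ≠ ⊥ ∧ U ≠ ⊤ := by
  haveI := h.nonempty
  by_contra hc
  push Not at hc
  obtain ⟨a, ha, b, hb, hne⟩ := h.nonab2
  refine hne (Units.ext (eq_of_mulVec fun v => ?_))
  have := commSet_comm_on (M := M) (U := ⊤) top_ne_bot
    (fun W hW _ => (em (W = ⊥)).imp id fun h0 => hc W hW h0) (fun _ _ _ _ => trivial)
    (h.mem2 ha) (h.mem2 hb) (fun _ _ => trivial) (fun _ _ => trivial) v trivial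
  simpa [Matrix.mulVec_mulVec] using this

theorem Hyp.no_line (h : Hyp P M M2) {U : Submodule F VV} (hUi : Inv M U) (h1 : finrank F U = 1) : False := by
  obtain ⟨⟨v, hv⟩, hv0, hspan⟩ := finrank_eq_one_iff'.mp h1
  refine h.not_abelian_on (U := U) (fun hb => by rw [hb, finrank_bot] at h1; omega) hUi fun a ha b hb u hu => ?_
  have key : ∀ w ∈ U, ∃ c : F, w = c • v := fun w hw => by
    obtain ⟨c, hc⟩ := hspan ⟨w, hw⟩
    exact ⟨c, (congrArg Subtype.val hc).symm⟩
  obtain ⟨c, rfl⟩ := key u hu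
  obtain ⟨α, hα⟩ := key _ (hUi a ha v hv)
  obtain ⟨β, hβ⟩ := key _ (hUi b hb v hv)
  simp only [Matrix.mulVec_smul, hα, hβ, smul_smul]
  congr 1
  ring

theorem Hyp.compl (h : Hyp P M M2) {U : Submodule F VV} (hU : Inv M U) :
    ∃ W, Inv M W ∧ IsCompl U W := by
  haveI := h.nonempty
  obtain ⟨S, hS, -⟩ := exists_simp (N := M) (W := ⊤) (fun _ _ _ _ => trivial) top_ne_bot
  exact exists_compl (span_simp h.irr h.norm ⟨S, hS⟩) hU

/-- The centre of the commutant stabilises every invariant subspace. -/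
theorem Hyp.centre_stable (h : Hyp P M M2) {U : Submodule F VV} (hU : Inv M U) {z : MM} (hz : z ∈ centre M) :
    ∀ u ∈ U, z *ᵥ u ∈ U := by
  obtain ⟨W, hW, hUW⟩ := h.compl hU
  set p := U.projection W hUW
  have hp : ∀ v, LinearMap.toMatrix' p *ᵥ v = p v := fun v => by
    rw [← Matrix.toLin'_apply, Matrix.toLin'_toMatrix']
  have hcomm : ∀ g ∈ M, (g : MM) * LinearMap.toMatrix' p = LinearMap.toMatrix' p * (g : MM) := by
    intro g hg
    refine eq_of_mulVec fun v => ?_
    obtain ⟨x, hx, y, hy, rfl⟩ := Submodule.mem_sup.mp (hUW.sup_eq_top.ge (Submodule.mem_top : v ∈ ⊤))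
    simp only [← Matrix.mulVec_mulVec, hp, Matrix.mulVec_add, map_add, p,
      Submodule.projection_apply_left hUW ⟨x, hx⟩,
      Submodule.projection_apply_left hUW ⟨_, hU g hg x hx⟩, Submodule.projection_apply_of_mem_right hUW hy,
      Submodule.projection_apply_of_mem_right hUW (hW g hg y hy), Matrix.mulVec_zero]
  intro u hu
  have := congrArg (fun A => A *ᵥ u) ((mem_centre.mp hz).2 _ hcomm)
  simp only [← Matrix.mulVec_mulVec, hp] at this
  rw [show p u = u from Submodule.projection_apply_left hUW ⟨u, hu⟩] at this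
  rw [← this]
  exact Submodule.projection_apply_mem hUW _

theorem Hyp.centre_scalar (h : Hyp P M M2) : ∀ z ∈ centre M, ∃ c : F, z = c • (1 : MM) := by
  haveI := h.nonempty
  classical
  have hV : finrank F VV = 9 := by rw [Module.finrank_fintype_fun_eq_card, h.card]
  rcases centre_cases h.irr h.norm with ⟨r, hr, hK⟩ | ⟨t, w, e, hB⟩
  · rw [h.card] at hr
    by_cases hr1 : r = 1
    · intro z hz
      have := Subalgebra.eq_bot_of_finrank_one (hK.finrank_eq.trans hr1)
      rw [this, Algebra.mem_bot] at hz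
      obtain ⟨c, rfl⟩ := hz
      exact ⟨c, Algebra.algebraMap_eq_smul_one c⟩
    exfalso
    set K := centre M with hKd
    -- the orbit of a vector under the field
    let L : VV → (↥(Subalgebra.toSubmodule K) →ₗ[F] VV) := fun v =>
      { toFun := fun k => (k : MM) *ᵥ v
        map_add' := fun a b => Matrix.add_mulVec _ _ v
        map_smul' := fun c a => Matrix.smul_mulVec c _ v }
    have hLinj : ∀ v, v ≠ 0 → Function.Injective (L v) := fun v hv =>
      (injective_iff_map_eq_zero (L v)).mpr fun k hk => by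
        by_contra hk0
        obtain ⟨y, hy, hky⟩ := hK.inv k k.2 (fun h0 => hk0 (Subtype.ext h0))
        refine hv ?_
        have := congrArg (fun u => y *ᵥ u) (show (k : MM) *ᵥ v = 0 from hk)
        simpa [Matrix.mulVec_mulVec, hK.comm y hy k k.2, hky] using this
    have hLfin : ∀ v, v ≠ 0 → finrank F (LinearMap.range (L v)) = r := fun v hv => by
      rw [LinearMap.finrank_range_of_inj (hLinj v hv)]
      exact hK.finrank_eq
    have hLle : ∀ (U : Submodule F VV), Inv M U → ∀ v ∈ U, LinearMap.range (L v) ≤ U := by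
      rintro U hU v hv _ ⟨k, rfl⟩
      exact h.centre_stable hU k.2 v hv
    obtain ⟨U, hU, hU0, hU1⟩ := h.reducible
    obtain ⟨W, hW, hUW⟩ := h.compl hU
    have hW0 : W ≠ ⊥ := fun hb => hU1 (by simpa [hb] using hUW.sup_eq_top)
    have hsum := Submodule.finrank_add_eq_of_isCompl hUW
    rw [hV] at hsum
    have hlow : ∀ X : Submodule F VV, Inv M X → X ≠ ⊥ → r ≤ finrank F X := fun X hX hX0 => by
      obtain ⟨v, hv, hv0⟩ := (Submodule.ne_bot_iff X).mp hX0
      exact hLfin v hv0 ▸ Submodule.finrank_mono (hLle X hX v hv)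
    have hr3 : r = 3 := by
      have hrd : r ∈ Nat.divisors 9 := Nat.mem_divisors.mpr ⟨hr, by norm_num⟩
      have : Nat.divisors 9 = {1, 3, 9} := by decide
      rw [this] at hrd
      simp only [Finset.mem_insert, Finset.mem_singleton] at hrd
      have := hlow U hU hU0
      have := hlow W hW hW0
      omega
    have hfine : ∀ X : Submodule F VV, Inv M X → X ≠ ⊥ → finrank F X ≤ 5 →
        ∃ v, v ≠ 0 ∧ X = LinearMap.range (L v) := fun X hX hX0 hX5 => by
      obtain ⟨v, hv, hv0⟩ := (Submodule.ne_bot_iff X).mp hX0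
      refine ⟨v, hv0, le_antisymm (fun u hu => ?_) (hLle X hX v hv)⟩
      by_contra hun
      have hu0 : u ≠ 0 := fun h0 => hun (h0 ▸ zero_mem _)
      have hdisj : LinearMap.range (L v) ⊓ LinearMap.range (L u) = ⊥ := by
        rw [Submodule.eq_bot_iff]
        rintro x ⟨⟨k, rfl⟩, l, hl⟩
        by_contra hx
        have hl0 : (l : MM) ≠ 0 := fun h0 => hx (by
          rw [← hl]; show (l : MM) *ᵥ u = 0; rw [h0, Matrix.zero_mulVec])
        obtain ⟨y, hy, hly⟩ := hK.inv l l.2 hl0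
        refine hun ⟨⟨y * k, K.mul_mem hy k.2⟩, ?_⟩
        have := congrArg (fun w => y *ᵥ w) (show (l : MM) *ᵥ u = (k : MM) *ᵥ v from hl)
        show (y * (k : MM)) *ᵥ v = u
        simpa [Matrix.mulVec_mulVec, hK.comm y hy l l.2, hly] using this.symm
      have h6 := Submodule.finrank_sup_add_finrank_inf_eq (LinearMap.range (L v)) (LinearMap.range (L u))
      rw [hdisj, finrank_bot, hLfin v hv0, hLfin u hu0] at h6
      have := Submodule.finrank_mono (sup_le (hLle X hX v hv) (hLle X hX u hu))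
      omega
    obtain ⟨X, hX, v, hv0, hXv⟩ : ∃ X, Inv M X ∧ ∃ v, v ≠ 0 ∧ X = LinearMap.range (L v) := by
      by_cases h5 : finrank F U ≤ 5
      · exact ⟨U, hU, hfine U hU hU0 h5⟩
      · exact ⟨W, hW, hfine W hW hW0 (by omega)⟩
    subst hXv
    have hv : v ∈ LinearMap.range (L v) := ⟨⟨1, one_mem K⟩, Matrix.one_mulVec v⟩
    refine h.not_abelian_on (fun hb => hv0 ((Submodule.eq_bot_iff _).mp hb v hv)) hX ?_
    rintro a ha b hb _ ⟨k, rfl⟩
    obtain ⟨ka, hka⟩ := hX a ha v hv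
    obtain ⟨kb, hkb⟩ := hX b hb v hv
    change (ka : MM) *ᵥ v = (a : MM) *ᵥ v at hka
    change (kb : MM) *ᵥ v = (b : MM) *ᵥ v at hkb
    show (a : MM) *ᵥ ((b : MM) *ᵥ ((k : MM) *ᵥ v)) = (b : MM) *ᵥ ((a : MM) *ᵥ ((k : MM) *ᵥ v))
    have hca : ∀ (l : MM), l ∈ K → ∀ g ∈ M, (g : MM) *ᵥ (l *ᵥ v) = l *ᵥ ((g : MM) *ᵥ v) := fun l hl g hg => by
      rw [Matrix.mulVec_mulVec, (mem_centre.mp hl).1 g hg, ← Matrix.mulVec_mulVec]
    rw [hca _ k.2 b hb, hca _ k.2 a ha, ← hka, ← hkb]
    simp only [Matrix.mulVec_mulVec _ (k : MM)]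
    rw [hca _ (K.mul_mem k.2 kb.2) a ha, hca _ (K.mul_mem k.2 ka.2) b hb, ← hka, ← hkb, Matrix.mulVec_mulVec,
      Matrix.mulVec_mulVec, mul_assoc, mul_assoc, hK.comm _ kb.2 _ ka.2]
  · exfalso
    have htw : t * w = 9 := hB.card_eq.trans h.card
    have ht : 2 ≤ t := hB.decomp.two_le
    have hfin : ∀ i, finrank F (img (e i)) = w := hB.decomp.finrank_eq
    have hw : w = 1 ∨ w = 3 := by
      have hwd : w ∈ Nat.divisors 9 := Nat.mem_divisors.mpr ⟨⟨t, by rw [← htw, mul_comm]⟩, by norm_num⟩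
      have : Nat.divisors 9 = {1, 3, 9} := by decide
      rw [this] at hwd
      simp only [Finset.mem_insert, Finset.mem_singleton] at hwd
      rcases hwd with rfl | rfl | rfl
      · exact Or.inl rfl
      · exact Or.inr rfl
      · omega
    rcases hw with rfl | rfl
    · exact h.no_line (hB.inv ⟨0, by omega⟩) (hfin _)
    obtain ⟨a, ha, b, hb, hne⟩ := h.nonab2
    refine hne (Units.ext (eq_of_mulVec fun v => ?_))
    have hsimp : ∀ i, ∀ W : Submodule F VV, Inv M W → W ≤ img (e i) → W = ⊥ ∨ W = img (e i) := by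
      intro i W hW hle
      by_contra hc
      push Not at hc
      have h3 := hfin i
      have hlt := Submodule.finrank_lt_finrank_of_lt (lt_of_le_of_ne hle hc.2)
      have hpos : finrank F W ≠ 0 := fun h0 => hc.1 (Submodule.finrank_eq_zero.mp h0)
      obtain ⟨W', hW', hWW⟩ := h.compl hW
      have hmod : W ⊔ W' ⊓ img (e i) = img (e i) := by
        rw [← sup_inf_assoc_of_le _ hle, hWW.sup_eq_top, top_inf_eq]
      have hdis : W ⊓ (W' ⊓ img (e i)) = ⊥ := by rw [← inf_assoc, hWW.inf_eq_bot, bot_inf_eq]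
      have hs := Submodule.finrank_sup_add_finrank_inf_eq W (W' ⊓ img (e i))
      rw [hmod, hdis, finrank_bot, h3] at hs
      rcases (show finrank F W = 1 ∨ finrank F W = 2 by omega) with h1 | h2
      · exact h.no_line hW h1
      · exact h.no_line (inv_inf hW' (hB.inv i)) (by omega)
    have hstab : ∀ i, ∀ y ∈ M2, ∀ u ∈ img (e i), (y : MM) *ᵥ u ∈ img (e i) := by
      intro i y hy u hu
      rw [mem_img_idem (hB.idem i)] at hu ⊢
      rw [Matrix.mulVec_mulVec, ← (mem_centre.mp (hB.mem i)).2 _ (h.mem2 hy), ← Matrix.mulVec_mulVec, hu]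
    have key : ∀ i, ∀ u ∈ img (e i), (a : MM) *ᵥ ((b : MM) *ᵥ u) = (b : MM) *ᵥ ((a : MM) *ᵥ u) := fun i =>
      commSet_comm_on (fun hb0 => by have := hfin i; rw [hb0, finrank_bot] at this; omega) (hsimp i) (hB.inv i)
        (h.mem2 ha) (h.mem2 hb) (hstab i a ha) (hstab i b hb)
    have hv : v = ∑ i, e i *ᵥ v := by rw [← Matrix.sum_mulVec, hB.sum_eq, Matrix.one_mulVec]
    rw [hv, Matrix.mulVec_sum, Matrix.mulVec_sum]
    refine Finset.sum_congr rfl fun i _ => ?_
    have := key i (e i *ᵥ v) ⟨v, Matrix.toLin'_apply _ _⟩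
    simpa [Matrix.mulVec_mulVec, mul_assoc] using this

/-- The algebra isomorphism attached to coordinates. -/
noncomputable def theta (e : ι ≃ Fin 3 × Fin 3) (Q : GG) :
    MM ≃* Matrix (Fin 3 × Fin 3) (Fin 3 × Fin 3) F where
  toFun X := Matrix.reindex e e (((Q⁻¹ : GG) : MM) * X * (Q : MM))
  invFun Y := (Q : MM) * Matrix.reindex e.symm e.symm Y * ((Q⁻¹ : GG) : MM)
  left_inv X := by
    simp [Matrix.reindex_apply, Matrix.submatrix_submatrix, mul_assoc]
  right_inv Y := by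
    simp [Matrix.reindex_apply, Matrix.submatrix_submatrix, mul_assoc]
  map_mul' X Y := by
    simp [Matrix.reindex_apply, Matrix.submatrix_mul_equiv, mul_assoc]

/-- Coordinates in which `M` acts on the first factor with scalar commutant. -/
theorem Hyp.coords (h : Hyp P M M2) : ∃ (e : ι ≃ Fin 3 × Fin 3) (Q : GG) (A : M → Matrix (Fin 3) (Fin 3) F),
    (∀ U : Submodule F (Fin 3 → F), (∀ n, ∀ u ∈ U, A n *ᵥ u ∈ U) → U = ⊥ ∨ U = ⊤) ∧
    (∀ X : Matrix (Fin 3) (Fin 3) F, (∀ n, X * A n = A n * X) → ∃ c : F, X = c • 1) ∧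
    (∀ n : M, theta e Q ((n : GG) : MM) = A n ⊗ₖ (1 : Matrix (Fin 3) (Fin 3) F)) ∧
      ∀ X ∈ commSet M, ∃ B : Matrix (Fin 3) (Fin 3) F, theta e Q X = (1 : Matrix (Fin 3) (Fin 3) F) ⊗ₖ B := by
  haveI := h.nonempty
  classical
  obtain ⟨d, k, A, φ, hdk, hd, hk, hirr, hscal, hequiv, hbij⟩ := homogeneous h.irr h.norm h.centre_scalar
  rw [h.card] at hdk
  obtain rfl : d = 3 := by
    have hdd : d ∈ Nat.divisors 9 := Nat.mem_divisors.mpr ⟨⟨k, hdk.symm⟩, by norm_num⟩
    have : Nat.divisors 9 = {1, 3, 9} := by decide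
    rw [this] at hdd
    simp only [Finset.mem_insert, Finset.mem_singleton] at hdd
    rcases hdd with rfl | h3 | rfl
    · exfalso
      refine h.not_abelian_on (U := ⊤) (by haveI := h.nonempty; exact top_ne_bot) (fun _ _ _ _ => trivial) fun a ha b hb u _ => ?_
      obtain ⟨v, rfl⟩ := hbij.2 u
      simp only [MaxTensor.assemble, LinearMap.coe_mk, AddHom.coe_mk, Matrix.mulVec_sum]
      refine Finset.sum_congr rfl fun j _ => ?_
      rw [hequiv j ⟨b, hb⟩, hequiv j ⟨a, ha⟩, hequiv j ⟨a, ha⟩, hequiv j ⟨b, hb⟩]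
      congr 1
      funext i
      simp [Matrix.mulVec, dotProduct, Fin.sum_univ_one, Fin.fin_one_eq_zero i]
      ring
    · exact h3
    · exfalso
      obtain ⟨U, hU, hU0, hU1⟩ := h.reducible
      obtain rfl : k = 1 := by omega
      let f : (Fin 9 → F) →ₗ[F] VV := φ 0
      have hf : Function.Bijective f := by
        have he : ∀ v, MaxTensor.assemble φ v = f (v 0) := fun v => by simp [MaxTensor.assemble, f]
        constructor
        · intro x y hxy
          have := @hbij.1 (fun _ => x) (fun _ => y) (by simpa [he] using hxy)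
          exact congrFun this 0
        · intro x
          obtain ⟨v, rfl⟩ := hbij.2 x
          exact ⟨v 0, (he v).symm⟩
      rcases hirr (U.comap f) (fun n u hu => by
          rw [Submodule.mem_comap] at hu ⊢
          show φ 0 _ ∈ U
          rw [← hequiv 0 n]
          exact hU n n.2 _ hu) with h0 | h0
      · exact hU0 ((Submodule.eq_bot_iff U).mpr fun u hu => by
          obtain ⟨x, rfl⟩ := hf.2 u
          have : x ∈ U.comap f := hu
          rw [h0, Submodule.mem_bot] at this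
          rw [this, map_zero])
      · exact hU1 (Submodule.eq_top_iff'.mpr fun u => by
          obtain ⟨x, rfl⟩ := hf.2 u
          exact (h0.ge Submodule.mem_top : x ∈ U.comap f))
  obtain rfl : k = 3 := by omega
  obtain ⟨e, Q, hQ, -⟩ := MaxTensor.normalizer_le_tensor_coord A hirr hscal φ hequiv hbij
  have hth : ∀ (X : MM) (x : Fin 3 × Fin 3 → F),
      (Q : MM) *ᵥ ((theta e Q X *ᵥ x) ∘ e) = X *ᵥ ((Q : MM) *ᵥ (x ∘ e)) := by
    intro X x
    have : (theta e Q X *ᵥ x) ∘ e = (((Q⁻¹ : GG) : MM) * X * (Q : MM)) *ᵥ (x ∘ e) := by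
      simp only [theta, MulEquiv.coe_mk, Equiv.coe_fn_mk]
      rw [Matrix.reindex_apply, Matrix.submatrix_mulVec_equiv]
      simp [Function.comp_def]
    rw [this, Matrix.mulVec_mulVec, Matrix.mulVec_mulVec, ← mul_assoc, ← mul_assoc, Units.mul_inv, one_mul]
  have hinj : ∀ x y : Fin 3 × Fin 3 → F, (Q : MM) *ᵥ (x ∘ e) = (Q : MM) *ᵥ (y ∘ e) → x = y := by
    intro x y hxy
    have h' := Matrix.mulVec_injective_iff_isUnit.mpr Q.isUnit hxy
    funext p
    simpa using congrFun h' (e.symm p)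
  have hA : ∀ n : M, theta e Q ((n : GG) : MM) = A n ⊗ₖ (1 : Matrix (Fin 3) (Fin 3) F) := by
    intro n
    refine eq_of_mulVec fun x => hinj _ _ ?_
    rw [hth, hQ, hQ]
    simp only [MaxTensor.assemble, LinearMap.coe_mk, AddHom.coe_mk, Matrix.mulVec_sum, hequiv]
    refine Finset.sum_congr rfl fun j _ => congrArg (φ j) (funext fun i => ?_)
    simp [Matrix.mulVec, dotProduct, Fintype.sum_prod_type, Matrix.one_apply]
  refine ⟨e, Q, A, hirr, hscal, hA, fun X hX => ?_⟩
  set Y := theta e Q X with hY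
  have hblock : ∀ a b, ∃ c : F, Matrix.of (fun i j => Y (i, a) (j, b)) = c • (1 : Matrix (Fin 3) (Fin 3) F) := by
    intro a b
    refine hscal _ fun n => ?_
    have := congrArg (theta e Q) (hX n n.2)
    rw [map_mul, map_mul, hA, ← hY] at this
    ext i j
    have := congrFun (congrFun this (i, a)) (j, b)
    simpa [Matrix.mul_apply, Fintype.sum_prod_type, Matrix.one_apply] using this.symm
  choose c hc using hblock
  refine ⟨Matrix.of c, ?_⟩
  ext ⟨i, a⟩ ⟨j, b⟩
  have := congrFun (congrFun (hc a b) i) j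
  simp only [Matrix.of_apply, Matrix.smul_apply, smul_eq_mul] at this
  simp [this, mul_comm]

/-- Conjugation transports commutants. -/
theorem commSet_conj {A B : Subgroup GG} {h : GG} (hAB : A.map (MulAut.conj h).toMonoidHom = B) (X : MM) :
    X ∈ commSet A ↔ (h : MM) * X * ((h⁻¹ : GG) : MM) ∈ commSet B := by
  subst hAB
  constructor
  · rintro hX _ ⟨g, hg, rfl⟩
    have := congrArg (fun Z => (h : MM) * Z * ((h⁻¹ : GG) : MM)) (hX g hg)
    simpa [mul_assoc] using this
  · intro hX g hg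
    have := congrArg (fun Z => ((h⁻¹ : GG) : MM) * Z * (h : MM)) (hX _ ⟨g, hg, rfl⟩)
    simpa [mul_assoc] using this

end Generic

section Pair

variable {F : Type*} [Field F] [Finite F]

local notation "KK" => Matrix (Fin 3 × Fin 3) (Fin 3 × Fin 3) F
local notation "M3" => Matrix (Fin 3) (Fin 3) F

/-- `Y` has the form `1 ⊗ B`. -/
def InR (Y : KK) : Prop := ∃ B : M3, Y = (1 : M3) ⊗ₖ B

/-- `Y` has the form `A ⊗ 1`. -/
def InL (Y : KK) : Prop := ∃ A : M3, Y = A ⊗ₖ (1 : M3)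

theorem kron_left_inj {A A' : M3} (h : A ⊗ₖ (1 : M3) = A' ⊗ₖ (1 : M3)) : A = A' := by
  ext i j
  simpa using congrFun (congrFun h (i, 0)) (j, 0)

theorem kron_right_inj {A A' : M3} (h : (1 : M3) ⊗ₖ A = (1 : M3) ⊗ₖ A') : A = A' := by
  ext i j
  simpa using congrFun (congrFun h (0, i)) (0, j)

theorem kron_comm (A B : M3) : (A ⊗ₖ (1 : M3)) * ((1 : M3) ⊗ₖ B) = ((1 : M3) ⊗ₖ B) * (A ⊗ₖ (1 : M3)) := by
  rw [← Matrix.mul_kronecker_mul, ← Matrix.mul_kronecker_mul, mul_one, one_mul, one_mul, mul_one]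

/-- An element normalising the matrices `1 ⊗ B` is a pure tensor. -/
theorem pure_of_normalises {κ : Type*} (T : κ → M3)
    (hirr : ∀ U : Submodule F (Fin 3 → F), (∀ n, ∀ u ∈ U, T n *ᵥ u ∈ U) → U = ⊥ ∨ U = ⊤)
    (hscal : ∀ X : M3, (∀ n, X * T n = T n * X) → ∃ c : F, X = c • 1)
    (hunit : ∀ n, ∃ g : GL (Fin 3 × Fin 3) F, (g : KK) = T n ⊗ₖ (1 : M3))
    (hcentral : ∀ Y : KK, (∀ B : M3, Y * ((1 : M3) ⊗ₖ B) = ((1 : M3) ⊗ₖ B) * Y) → InL Y)
    {z : GL (Fin 3 × Fin 3) F} (hz : ∀ Y : KK, InR Y ↔ InR ((z : KK) * Y * ((z⁻¹ : GL (Fin 3 × Fin 3) F) : KK))) :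
    z ∈ Cfsg.Geo.kroneckerSubgroup 3 3 F := by
  let N : Subgroup (GL (Fin 3 × Fin 3) F) :=
    { carrier := {g | ∀ Y, InR Y → (g : KK) * Y = Y * (g : KK)}
      mul_mem' := fun {a b} ha hb Y hY => by
        rw [Units.val_mul, mul_assoc, hb Y hY, ← mul_assoc, ha Y hY, mul_assoc]
      one_mem' := fun Y _ => by simp
      inv_mem' := fun {a} ha Y hY => by
        have := congrArg (fun Z => ((a⁻¹ : GL (Fin 3 × Fin 3) F) : KK) * Z * ((a⁻¹ : GL (Fin 3 × Fin 3) F) : KK))
          (ha Y hY)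
        simpa [mul_assoc] using this.symm }
  have hL : ∀ g : N, InL ((g : GL (Fin 3 × Fin 3) F) : KK) := fun g => hcentral _ fun B => g.2 _ ⟨B, rfl⟩
  choose a ha using hL
  have hT : ∀ n, ∃ g : N, a g = T n := fun n => by
    obtain ⟨g, hg⟩ := hunit n
    refine ⟨⟨g, fun Y hY => ?_⟩, kron_left_inj ((ha _).symm.trans hg)⟩
    obtain ⟨B, rfl⟩ := hY
    rw [hg, kron_comm]
  let φ : Fin 3 → (Fin 3 → F) →ₗ[F] (Fin 3 × Fin 3 → F) := fun j =>
    { toFun := fun x p => if p.2 = j then x p.1 else 0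
      map_add' := fun x y => by funext p; by_cases h : p.2 = j <;> simp [h]
      map_smul' := fun c x => by funext p; by_cases h : p.2 = j <;> simp [h] }
  have hval : ∀ v, MaxTensor.assemble φ v = fun p : Fin 3 × Fin 3 => v p.2 p.1 := fun v => by
    funext p
    simp [MaxTensor.assemble, φ, Finset.sum_apply]
  obtain ⟨e', P', hP', hmem⟩ := MaxTensor.normalizer_le_tensor_coord (N := N) a
    (fun U hU => hirr U fun n u hu => by obtain ⟨g, hg⟩ := hT n; rw [← hg]; exact hU g u hu)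
    (fun X hX => hscal X fun n => by obtain ⟨g, hg⟩ := hT n; rw [← hg]; exact hX g)
    φ (fun j g x => by
      rw [ha g]
      funext p
      simp [φ, Matrix.mulVec, dotProduct, Fintype.sum_prod_type, Matrix.one_apply])
    ⟨fun v w hvw => by
      rw [hval, hval] at hvw
      funext j i
      exact congrFun hvw (i, j), fun x => ⟨fun j i => x (i, j), hval _⟩⟩
  have hzn : z ∈ Subgroup.normalizer (N : Set (GL (Fin 3 × Fin 3) F)) := by
    refine Subgroup.mem_normalizer_iff.mpr fun g => ⟨fun hg Y hY => ?_, fun hg Y hY => ?_⟩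
    · have hY' : InR (((z⁻¹ : GL (Fin 3 × Fin 3) F) : KK) * Y * (z : KK)) := by
        rw [hz]; simpa [mul_assoc] using hY
      have := congrArg (fun Z => (z : KK) * Z * ((z⁻¹ : GL (Fin 3 × Fin 3) F) : KK)) (hg _ hY')
      simpa [mul_assoc] using this
    · have := congrArg (fun Z => ((z⁻¹ : GL (Fin 3 × Fin 3) F) : KK) * Z * (z : KK)) (hg _ ((hz Y).mp hY))
      simpa [mul_assoc] using this
  obtain ⟨_, ⟨K, hK, rfl⟩, hzeq⟩ := hmem z hzn
  suffices z = K by rw [this]; exact hK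
  refine Units.ext (eq_of_mulVec fun x => ?_)
  have hPx : ∀ y : Fin 3 × Fin 3 → F, (P' : KK) *ᵥ (y ∘ e') = y := fun y => by rw [hP', hval]
  have : (Cfsg.Geo.glReindex e'.symm K : KK) *ᵥ (x ∘ e') = ((K : KK) *ᵥ x) ∘ e' := by
    show Matrix.reindex e'.symm e'.symm (K : KK) *ᵥ _ = _
    rw [Matrix.reindex_apply, Equiv.symm_symm, Matrix.submatrix_mulVec_equiv, Function.comp_assoc,
      Equiv.self_comp_symm, Function.comp_id]
  rw [← hzeq]
  conv_lhs => rw [← hPx x]
  show ((P' * Cfsg.Geo.glReindex e'.symm K * P'⁻¹ : GL (Fin 3 × Fin 3) F) : KK) *ᵥ _ = _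
  rw [Matrix.mulVec_mulVec, ← Units.val_mul, inv_mul_cancel_right, Units.val_mul, ← Matrix.mulVec_mulVec, this,
    hPx]

/-- The matrix exchanging the two factors. -/
def flip3 (F : Type*) [Field F] : GL (Fin 3 × Fin 3) F where
  val := Matrix.of fun p q => if q = p.swap then 1 else 0
  inv := Matrix.of fun p q => if q = p.swap then 1 else 0
  val_inv := by
    ext p q
    rw [Matrix.mul_apply, Finset.sum_eq_single p.swap (fun j _ hj => by simp [hj]) (by simp)]
    simp [Matrix.one_apply, eq_comm]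
  inv_val := by
    ext p q
    rw [Matrix.mul_apply, Finset.sum_eq_single p.swap (fun j _ hj => by simp [hj]) (by simp)]
    simp [Matrix.one_apply, eq_comm]

theorem flip3_inv : (flip3 F)⁻¹ = flip3 F := Units.ext rfl

theorem flip3_kron (A B : M3) :
    (flip3 F : KK) * (A ⊗ₖ B) * (flip3 F : KK) = B ⊗ₖ A := by
  ext ⟨i, j⟩ ⟨k, l⟩
  simp [flip3, Matrix.mul_apply, Fintype.sum_prod_type, Prod.ext_iff, ite_and, mul_comm]

theorem flip3_mem :
    Cfsg.Geo.glReindex (finTwoArrowEquiv (Fin 3)).symm (flip3 F) ∈ Cfsg.Geo.tensorWreathStandard 3 2 F := by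
  refine Subgroup.subset_closure (Or.inr ⟨Equiv.swap 0 1, fun x y => ?_⟩)
  simp only [Cfsg.Geo.glReindex, flip3, Units.coe_mapEquiv]
  simp [Matrix.reindex_apply, finTwoArrowEquiv, Prod.ext_iff, funext_iff, Fin.forall_fin_two]

theorem kron_mem {K : GL (Fin 3 × Fin 3) F} (hK : K ∈ Cfsg.Geo.kroneckerSubgroup 3 3 F) :
    Cfsg.Geo.glReindex (finTwoArrowEquiv (Fin 3)).symm K ∈ Cfsg.Geo.tensorWreathStandard 3 2 F := by
  obtain ⟨a, b, hab⟩ := hK
  refine Subgroup.subset_closure (Or.inl ⟨![a, b], fun x y => ?_⟩)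
  simp only [Cfsg.Geo.glReindex, Units.coe_mapEquiv, hab]
  simp [Matrix.reindex_apply, finTwoArrowEquiv, Fin.prod_univ_two]

local notation "G9" => Matrix.GeneralLinearGroup (Fin 9) F

theorem main {P M M2 : Subgroup G9} (h1 : Hyp P M M2) (h2 : Hyp P M2 M) :
    (∀ y : G9, (∀ x ∈ M, y * x = x * y) → (∀ x ∈ M2, y * x = x * y) → y ∈ Cfsg.Geo.scalars (Fin 9) F) ∧
      ∃ (e : Fin 9 ≃ (Fin 2 → Fin 3)) (Q : G9), ∀ h : G9,
        ((M.map (MulAut.conj h).toMonoidHom = M ∧ M2.map (MulAut.conj h).toMonoidHom = M2) ∨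
          (M.map (MulAut.conj h).toMonoidHom = M2 ∧ M2.map (MulAut.conj h).toMonoidHom = M)) →
          h ∈ Cfsg.Geo.tensorWreathSubgroup 3 2 e Q := by
  classical
  obtain ⟨e, Q, A, hirr, hscal, hA, hR⟩ := h1.coords
  obtain ⟨e2, Q2, A2, -, -, -, hR2⟩ := h2.coords
  set Θ := theta e Q with hΘ
  have hCR : ∀ X, X ∈ commSet M ↔ InR (Θ X) := by
    refine fun X => ⟨hR X, fun ⟨B, hB⟩ g hg => Θ.injective ?_⟩
    rw [map_mul, map_mul, hB, hA ⟨g, hg⟩, kron_comm]
  have hLC : ∀ X, InL (Θ X) → X ∈ commSet M2 := by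
    rintro X ⟨a, ha⟩ g hg
    obtain ⟨B, hB⟩ := (hCR _).mp (h1.mem2 hg)
    refine Θ.injective ?_
    rw [map_mul, map_mul, ha, hB, kron_comm]
  have hCL : ∀ X, X ∈ commSet M2 ↔ InL (Θ X) := by
    refine fun X => ⟨fun hX => ?_, hLC X⟩
    choose f hf using fun a : M3 => hR2 (Θ.symm (a ⊗ₖ (1 : M3))) (hLC _ ⟨a, by simp⟩)
    have hinj : Function.Injective f := fun a a' he => kron_left_inj (Θ.symm.injective
      ((theta e2 Q2).injective (by rw [hf, hf, he])))
    obtain ⟨B, hB⟩ := hR2 X hX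
    obtain ⟨a, rfl⟩ := (Finite.injective_iff_surjective.mp hinj) B
    exact ⟨a, by rw [(theta e2 Q2).injective (hB.trans (hf a).symm)]; simp⟩
  refine ⟨fun y hy hy2 => ?_, e.trans (finTwoArrowEquiv (Fin 3)).symm, Q, fun h hh => ?_⟩
  · obtain ⟨B, hB⟩ := (hCR (y : Matrix (Fin 9) (Fin 9) F)).mp fun g hg => by
      rw [← Units.val_mul, ← Units.val_mul, hy g hg]
    obtain ⟨a, ha⟩ := (hCL (y : Matrix (Fin 9) (Fin 9) F)).mp fun g hg => by
      rw [← Units.val_mul, ← Units.val_mul, hy2 g hg]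
    have hy1 : Θ (y : Matrix (Fin 9) (Fin 9) F) = Θ (a 0 0 • 1) := by
      have hr : Θ (a 0 0 • 1) = a 0 0 • 1 := by
        rw [hΘ]
        ext p q
        simp [theta, Matrix.one_apply]
      rw [hr, ha]
      ext ⟨i, k⟩ ⟨j, l⟩
      have h' := fun i j k l => congrFun (congrFun (hB.symm.trans ha) (i, k)) (j, l)
      have h00 := h' 0 0 k k
      have hii := h' i i k k
      have hij := h' i j k k
      simp [Matrix.one_apply] at h00 hii hij ⊢
      by_cases hk : k = l <;> by_cases hi : i = j <;> simp_all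
    have hy' := Θ.injective hy1
    have hne : a 0 0 ≠ 0 := fun h0 => by
      rw [h0, zero_smul] at hy'
      exact y.isUnit.ne_zero hy'
    exact (Cfsg.Geo.mem_scalars_iff y).mpr ⟨Units.mk0 _ hne, hy'⟩
  set z : GL (Fin 3 × Fin 3) F := Units.mapEquiv Θ h with hzdef
  have hconj : ∀ X, Θ ((h : Matrix (Fin 9) (Fin 9) F) * X * ((h⁻¹ : G9) : Matrix (Fin 9) (Fin 9) F)) =
      (z : KK) * Θ X * ((z⁻¹ : GL (Fin 3 × Fin 3) F) : KK) := by
    intro X
    rw [map_mul, map_mul]
    rfl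
  have hunit : ∀ n : M, ∃ g : GL (Fin 3 × Fin 3) F, (g : KK) = A n ⊗ₖ (1 : M3) := fun n =>
    ⟨Units.mapEquiv Θ (n : G9), hA n⟩
  have hcentral : ∀ Y : KK, (∀ B : M3, Y * ((1 : M3) ⊗ₖ B) = ((1 : M3) ⊗ₖ B) * Y) → InL Y := by
    intro Y hY
    have hmem : Θ.symm Y ∈ commSet M2 := fun g hg => by
      obtain ⟨B, hB⟩ := (hCR _).mp (h1.mem2 hg)
      refine Θ.injective ?_
      rw [map_mul, map_mul, Θ.apply_symm_apply, hB, hY]
    simpa using (hCL _).mp hmem
  have fin : ∀ W, Cfsg.Geo.glReindex (finTwoArrowEquiv (Fin 3)).symm W ∈ Cfsg.Geo.tensorWreathStandard 3 2 F →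
      W = z → h ∈ Cfsg.Geo.tensorWreathSubgroup 3 2 (e.trans (finTwoArrowEquiv (Fin 3)).symm) Q := by
    rintro W hW rfl
    refine ⟨_, ⟨_, hW, rfl⟩, ?_⟩
    show Q * Cfsg.Geo.glReindex _ (Cfsg.Geo.glReindex _ _) * Q⁻¹ = h
    refine Units.ext ?_
    simp only [hzdef, hΘ, Cfsg.Geo.glReindex, Units.val_mul, Units.coe_mapEquiv, theta]
    simp [Matrix.reindex_apply, Matrix.submatrix_submatrix, Function.comp_def, mul_assoc]
    simp only [← Matrix.coe_units_inv]
    rw [show (fun x : Fin 9 => x) = id from rfl, Matrix.submatrix_id_id]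
    simp only [← mul_assoc, Units.mul_inv, one_mul]
    rw [mul_assoc, Units.mul_inv, mul_one]
  rcases hh with ⟨hM, -⟩ | ⟨hM, hM2⟩
  · refine fin z (kron_mem ?_) rfl
    refine pure_of_normalises A hirr hscal hunit hcentral fun Y => ?_
    obtain ⟨X, rfl⟩ := Θ.surjective Y
    rw [← hCR, ← hconj, ← hCR]
    exact commSet_conj hM X
  · refine fin (flip3 F * (flip3 F * z)) ?_ (by rw [← mul_assoc]; nth_rewrite 1 [← flip3_inv]; rw [inv_mul_cancel, one_mul])
    rw [map_mul]
    refine mul_mem flip3_mem (kron_mem ?_)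
    refine pure_of_normalises A hirr hscal hunit hcentral fun Y => ?_
    obtain ⟨X, rfl⟩ := Θ.surjective Y
    rw [← hCR, commSet_conj hM, hCL, hconj]
    have hs : ∀ Z : KK, InL Z ↔ InR ((flip3 F : KK) * Z * (flip3 F : KK)) := by
      intro Z
      have hff : (flip3 F : KK) * (flip3 F : KK) = 1 := by
        conv_lhs => arg 1; rw [← flip3_inv]
        rw [Units.inv_mul]
      constructor
      · rintro ⟨a, rfl⟩; exact ⟨a, flip3_kron _ _⟩
      · rintro ⟨b, hb⟩
        refine ⟨b, ?_⟩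
        rw [← flip3_kron, ← hb]
        simp only [← mul_assoc, hff, one_mul]
        simp only [mul_assoc, hff, mul_one]
    rw [hs]
    simp [mul_assoc, flip3_inv]

/-- Two commuting non-abelian subgroups normalised by an absolutely irreducible group. -/
theorem _root_.Cfsg.Agent.Lib.LinNine.wreath {P M M2 : Subgroup G9}
    (hP : Cfsg.Geo.ActsAbsolutelyIrreducibly (Cfsg.Geo.matrixSet P)) (hMP : M ≤ P) (hM2P : M2 ≤ P)
    (hn : ∀ p ∈ P, ∀ x ∈ M, p * x * p⁻¹ ∈ M) (hn2 : ∀ p ∈ P, ∀ x ∈ M2, p * x * p⁻¹ ∈ M2)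
    (hna : ∃ a ∈ M, ∃ b ∈ M, a * b ≠ b * a) (hna2 : ∃ a ∈ M2, ∃ b ∈ M2, a * b ≠ b * a)
    (hcomm : ∀ x ∈ M, ∀ y ∈ M2, x * y = y * x) :
    (∀ y : G9, (∀ x ∈ M, y * x = x * y) → (∀ x ∈ M2, y * x = x * y) → y ∈ Cfsg.Geo.scalars (Fin 9) F) ∧
      ∃ (e : Fin 9 ≃ (Fin 2 → Fin 3)) (Q : G9), ∀ h : G9,
        ((M.map (MulAut.conj h).toMonoidHom = M ∧ M2.map (MulAut.conj h).toMonoidHom = M2) ∨
          (M.map (MulAut.conj h).toMonoidHom = M2 ∧ M2.map (MulAut.conj h).toMonoidHom = M)) →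
          h ∈ Cfsg.Geo.tensorWreathSubgroup 3 2 e Q :=
  main ⟨Fintype.card_fin 9, hP.1, hn, hna, hna2, hcomm⟩
    ⟨Fintype.card_fin 9, hP.1, hn2, hna2, hna, fun x hx y hy => (hcomm y hy x hx).symm⟩

end Pair

end Cfsg.Agent.Lib.LinNine.TwoFactors
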